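import Mathlib
import Cfsg.Agent.Lib.Helper5.BNFix
import Cfsg.Agent.Lib.Helper5.BNSteinberg
import Cfsg.Agent.Lib.helper3.TwoTrans
import Cfsg.Agent.Lib.helper3.GenChar
import Cfsg.Agent.Lib.helper3.NormOne

/-!
# The Steinberg character of a finite group with a (B,N)-pair (helper8)

The input is an indexing of the distinguished generators by the natural numbers below `l` and an
element `n₀` of `N` such that every double coset `B s B` contains an element which `n₀`
conjugates into `B`.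
-/

set_option autoImplicit false

namespace Cfsg.Agent.Lib.Helper8.Tw

open Cfsg Cfsg.Agent.Lib.Helper5.BN Cfsg.Agent.Lib.helper3 DoubleCoset
open scoped ComplexConjugate

/-- the data for the Steinberg character -/
structure StData {G : Type*} [Group G] (P : BNPair G) where
  /-- the rank -/
  l : ℕ
  /-- the generators -/
  s : ℕ → G
  s_mem : ∀ j < l, s j ∈ P.S
  s_surj : ∀ x ∈ P.S, ∃ j < l, s j = x
  /-- the longest element -/
  n0 : G
  n0_mem : n0 ∈ P.N
  low : ∀ x ∈ P.S, ∃ t ∈ D P x, n0 * t * n0⁻¹ ∈ P.B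

variable {G : Type*} [Group G] {P : BNPair G} (S : StData P)

/-- the longest element as an element of `N` -/
def StData.n0N : P.N := ⟨S.n0, S.n0_mem⟩

/-- the class of the longest element has no ascent -/
theorem StData.noAscent : NoAscent P (proj P S.n0N) := by
  intro σ hσ
  obtain ⟨ns, hns, rfl⟩ := hσ
  by_contra hlt
  rw [not_lt] at hlt
  have hx : ((S.n0N : P.N) : G) ∈ C P (proj P S.n0N) := by
    rw [C_proj]; exact self_mem_D _ _
  obtain ⟨t, ht, ht'⟩ := S.low (ns : G) hns
  have ht2 : t ∈ C P (proj P ns) := by rw [C_proj]; exact ht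
  have h1 := L2_right P ⟨ns, hns, rfl⟩ hlt hx ht2
  have h2 : ((S.n0N : P.N) : G) * t ∈ C P (proj P S.n0N) := by
    rw [C_proj]
    have : ((S.n0N : P.N) : G) * t
        = (S.n0 * t * S.n0⁻¹) * (S.n0N : P.N) := by
      show S.n0 * t = (S.n0 * t * S.n0⁻¹) * S.n0
      group
    rw [this]
    exact B_mul_mem_D P ht' (self_mem_D _ _)
  have h3 := bruhat P (C_inj_of_inter P h1 h2)
  have h4 : proj P ns = 1 := by
    have : proj P S.n0N * proj P ns = proj P S.n0N * 1 := by
      rw [mul_one]; exact h3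
    exact mul_left_cancel this
  exact Sbar_ne_one P ⟨ns, hns, rfl⟩ h4

/-- the generators of the Weyl group -/
noncomputable def StData.tauW (j : ℕ) : W P :=
  if h : j < S.l then proj P ⟨S.s j, P.subset (S.s_mem j h)⟩ else 1

/-- the standard parabolic subgroups -/
def StData.QJ (J : Finset ℕ) : Subgroup G := P.parabolic (S.s '' (J : Set ℕ))

theorem StData.tauW_surj : ∀ σ ∈ Sbar P, ∃ j < S.l, S.tauW j = σ := by
  rintro σ ⟨ns, hns, rfl⟩
  obtain ⟨j, hj, hjs⟩ := S.s_surj (ns : G) hns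
  refine ⟨j, hj, ?_⟩
  unfold StData.tauW
  rw [dif_pos hj]
  congr 1
  exact Subtype.ext hjs

theorem StData.QJ_spec : ∀ J ⊆ Finset.range S.l, ∃ JG ⊆ P.S,
    S.QJ J = P.parabolic JG ∧ bar P JG = S.tauW '' (J : Set ℕ) := by
  intro J hJ
  refine ⟨S.s '' (J : Set ℕ), ?_, rfl, ?_⟩
  · rintro _ ⟨j, hj, rfl⟩
    exact S.s_mem j (Finset.mem_range.1 (hJ hj))
  · ext σ
    constructor
    · rintro ⟨n, ⟨j, hj, hjm⟩, rfl⟩
      refine ⟨j, hj, ?_⟩
      unfold StData.tauW
      rw [dif_pos (Finset.mem_range.1 (hJ hj))]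
      congr 1
      exact Subtype.ext hjm
    · rintro ⟨j, hj, rfl⟩
      have hjl := Finset.mem_range.1 (hJ hj)
      refine ⟨⟨S.s j, P.subset (S.s_mem j hjl)⟩, ⟨j, hj, rfl⟩, ?_⟩
      unfold StData.tauW
      rw [dif_pos hjl]

/-! ### the torus -/

/-- `B ∩ n₀ B n₀⁻¹` -/
def StData.diagK : Subgroup G :=
  P.B ⊓ (P.B).comap (MulAut.conj (S.n0⁻¹)).toMonoidHom

theorem StData.mem_diagK {g : G} : g ∈ S.diagK ↔ g ∈ P.B ∧ S.n0⁻¹ * g * S.n0 ∈ P.B := by
  unfold StData.diagK
  rw [Subgroup.mem_inf, Subgroup.mem_comap]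
  simp

theorem StData.diagK_le : S.diagK ≤ P.B := inf_le_left

theorem StData.diagK_spec : ∀ β ∈ P.B, β ∈ S.diagK ↔
    ((S.n0N : P.N) : G)⁻¹ * β * (S.n0N : P.N) ∈ P.B := by
  intro β hβ
  rw [S.mem_diagK]
  exact ⟨fun h => h.2, fun h => ⟨hβ, h⟩⟩

/-! ### the alternating sum -/

/-- the alternating sum of the numbers of fixed points on the cosets of the parabolic subgroups -/
noncomputable def StData.stZ (g : G) : ℤ :=
  ∑ J ∈ (Finset.range S.l).powerset,
    (-1 : ℤ) ^ J.card * (Nat.card (MulAction.fixedBy (G ⧸ S.QJ J) g) : ℤ)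

theorem StData.stZ_norm [Fintype G] : ∑ g : G, (S.stZ g) ^ 2 = (Nat.card G : ℤ) :=
  steinberg_norm P S.l S.tauW S.tauW_surj S.QJ S.QJ_spec _ S.noAscent

theorem StData.stZ_borel [Finite G] (b : P.B) :
    S.stZ (b : G) = (Nat.card (MulAction.fixedBy
      (↥P.B ⧸ S.diagK.subgroupOf P.B) b) : ℤ) := by
  unfold StData.stZ
  rw [alternating_sum_fixedBy P S.l S.tauW S.tauW_surj S.QJ S.QJ_spec _
    S.noAscent (b : G) b.2, card_fixedBy_bigCell P S.n0N S.diagK S.diagK_spec b]

/-! ### the character -/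

/-- the cosets of `B ∩ n₀ B n₀⁻¹` in `B` -/
abbrev StData.BmodK : Type _ := ↥P.B ⧸ S.diagK.subgroupOf P.B

/-- the Steinberg character -/
noncomputable def StData.stC (g : G) : ℂ := (S.stZ g : ℂ)

theorem StData.stC_apply_of_mem [Finite G] {b : G} (hb : b ∈ P.B) :
    S.stC b = (Nat.card (MulAction.fixedBy S.BmodK (⟨b, hb⟩ : ↥P.B)) : ℂ) := by
  unfold StData.stC
  have := S.stZ_borel (⟨b, hb⟩ : P.B)
  rw [this]
  norm_cast

theorem StData.stC_one [Finite G] : S.stC (1 : G) = (Nat.card S.BmodK : ℂ) := by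
  rw [S.stC_apply_of_mem (one_mem _)]
  have : (⟨1, one_mem _⟩ : ↥P.B) = 1 := rfl
  rw [this, MulAction.fixedBy_one_eq_univ, Nat.card_congr (Equiv.Set.univ _)]

theorem StData.stC_ne_zero_of_mem_diagK [Finite G] {t : G} (ht : t ∈ S.diagK) :
    S.stC t ≠ 0 := by
  rw [S.stC_apply_of_mem (S.diagK_le ht)]
  have hmem : ((1 : ↥P.B) : S.BmodK) ∈ MulAction.fixedBy S.BmodK
      (⟨t, S.diagK_le ht⟩ : ↥P.B) := by
    rw [MulAction.mem_fixedBy, MulAction.Quotient.smul_mk, QuotientGroup.eq,
      Subgroup.mem_subgroupOf]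
    simp only [smul_eq_mul, mul_one, Subgroup.coe_inv]
    exact inv_mem ht
  have : Nonempty (MulAction.fixedBy S.BmodK (⟨t, S.diagK_le ht⟩ : ↥P.B)) := ⟨⟨_, hmem⟩⟩
  exact Nat.cast_ne_zero.2 Nat.card_pos.ne'

theorem StData.isIrrCharacter_stC [Finite G] : IsIrrCharacter G S.stC := by
  classical
  let _ : Fintype G := Fintype.ofFinite _
  have hnorm := S.stZ_norm
  have hgen : IsGeneralizedCharacter G S.stC := by
    have : S.stC = ∑ J ∈ (Finset.range S.l).powerset,
        ((((-1 : ℤ) ^ J.card : ℤ)) : ℂ) • (fun g : G =>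
          (Nat.card (MulAction.fixedBy (G ⧸ S.QJ J) g) : ℂ)) := by
      funext g
      rw [Finset.sum_apply]
      unfold StData.stC StData.stZ
      push_cast
      apply Finset.sum_congr rfl
      intro J _
      simp
    rw [this]
    apply GenChar.sum
    intro J _
    apply GenChar.smul_intCast
    apply GenChar.of_isCharacter
    exact PermChar.isCharacter_permChar _
  have hinner : classInner S.stC S.stC = 1 := by
    unfold classInner
    have hs : ∑ g : G, S.stC g * conj (S.stC g) = (Nat.card G : ℂ) := by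
      have h2 := congrArg (fun z : ℤ => (z : ℂ)) hnorm
      simp only [Int.cast_sum, Int.cast_natCast] at h2
      rw [← h2]
      apply Finset.sum_congr rfl
      intro g _
      unfold StData.stC
      rw [map_intCast, sq, Int.cast_mul]
    rw [hs]
    exact inv_mul_cancel₀ (Nat.cast_ne_zero.2 Nat.card_pos.ne')
  obtain ⟨a, ha | ha⟩ := Irr.exists_irr_of_norm_one hgen hinner
  · rw [ha]; exact a.2
  · exfalso
    obtain ⟨d, ρ, -, hρ⟩ := a.2
    have h1 : (a : G → ℂ) 1 = (d : ℂ) := by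
      rw [← hρ, Representation.char_one]
      simp
    have h2 := S.stC_one
    rw [ha, Pi.neg_apply, h1] at h2
    have h3 : ((d + Nat.card S.BmodK : ℕ) : ℂ) = 0 := by
      push_cast
      rw [← h2]
      ring
    have h4 := Nat.cast_eq_zero.1 h3
    have h5 : 0 < Nat.card S.BmodK := Nat.card_pos
    omega

/-! ### central elements -/

theorem fixedBy_mul_central'' {G : Type*} [Group G] (H : Subgroup G) (x c : G)
    (hc : c ∈ Subgroup.center G) (hcH : c ∈ H) :
    MulAction.fixedBy (G ⧸ H) (x * c) = MulAction.fixedBy (G ⧸ H) x := by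
  ext y
  induction y using QuotientGroup.induction_on with
  | H y =>
    rw [MulAction.mem_fixedBy, MulAction.mem_fixedBy, MulAction.Quotient.smul_mk,
      MulAction.Quotient.smul_mk]
    have e : ((x * c) • y : G) = (x • y) * c := by
      simp only [smul_eq_mul]
      rw [mul_assoc, mul_assoc, (Subgroup.mem_center_iff.1 hc y).symm]
    have e2 : (((x • y) * c : G) : G ⧸ H) = ((x • y : G) : G ⧸ H) := by
      rw [QuotientGroup.eq]
      have : (x • y * c)⁻¹ * (x • y) = c⁻¹ := by group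
      rw [this]
      exact inv_mem hcH
    rw [e, e2]

theorem StData.stC_mul_central (x c : G) (hc : c ∈ Subgroup.center G) (hcB : c ∈ P.B) :
    S.stC (x * c) = S.stC x := by
  unfold StData.stC StData.stZ
  congr 1
  apply Finset.sum_congr rfl
  intro J _
  rw [fixedBy_mul_central'' (S.QJ J) x c hc (B_le_parabolic P _ hcB)]

end Cfsg.Agent.Lib.Helper8.Tw
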