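import Mathlib
import Cfsg.Agent.Lib.Helper5.GLBN.Pair

/-!
# Unitriangular matrices with a prescribed pattern of zeros (helper8)

For a relation `r` on `Fin N`, `IsPat r M` says that `M` is upper unitriangular and that its
entries above the diagonal vanish outside `r`.  For a permutation `π`, the unitriangular group is
the product of the pattern groups of the non-inversions and of the inversions of `π`.
-/

set_option autoImplicit false

namespace Cfsg.Agent.Lib.Helper8.Tw

open Matrix Cfsg Cfsg.Agent.Lib.Helper5.GLBN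
open scoped MatrixGroups

variable {N : ℕ} {F : Type*} [Field F]

/-- upper unitriangular with entries above the diagonal only at the positions of `r` -/
def IsPat (r : Fin N → Fin N → Prop) (M : Matrix (Fin N) (Fin N) F) : Prop :=
  (∀ i, M i i = 1) ∧ (∀ i j, j < i → M i j = 0) ∧ ∀ i j, i < j → ¬ r i j → M i j = 0

/-- upper unitriangular -/
def IsUni (M : Matrix (Fin N) (Fin N) F) : Prop := IsPat (fun _ _ => True) M

theorem isUni_iff {M : Matrix (Fin N) (Fin N) F} :
    IsUni M ↔ (∀ i, M i i = 1) ∧ ∀ i j, j < i → M i j = 0 := by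
  unfold IsUni IsPat
  constructor
  · rintro ⟨h1, h2, -⟩; exact ⟨h1, h2⟩
  · rintro ⟨h1, h2⟩; exact ⟨h1, h2, fun _ _ _ h => absurd trivial h⟩

theorem IsPat.isUni {r : Fin N → Fin N → Prop} {M : Matrix (Fin N) (Fin N) F} (h : IsPat r M) :
    IsUni M := isUni_iff.2 ⟨h.1, h.2.1⟩

theorem isPat_one (r : Fin N → Fin N → Prop) : IsPat r (1 : Matrix (Fin N) (Fin N) F) := by
  refine ⟨fun i => Matrix.one_apply_eq i, fun i j h => Matrix.one_apply_ne (ne_of_gt h),
    fun i j h _ => Matrix.one_apply_ne (ne_of_lt h)⟩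

/-- the product of two pattern matrices, for a transitive pattern -/
theorem IsPat.mul {r : Fin N → Fin N → Prop}
    (hr : ∀ i j k, i < j → j < k → r i j → r j k → r i k)
    {M M' : Matrix (Fin N) (Fin N) F} (h : IsPat r M) (h' : IsPat r M') : IsPat r (M * M') := by
  refine ⟨?_, ?_, ?_⟩
  · intro i
    rw [Matrix.mul_apply, Finset.sum_eq_single i]
    · rw [h.1, h'.1, mul_one]
    · intro k _ hk
      rcases lt_or_gt_of_ne hk with hlt | hlt
      · rw [h.2.1 i k hlt, zero_mul]
      · rw [h'.2.1 k i hlt, mul_zero]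
    · intro hi; exact absurd (Finset.mem_univ i) hi
  · intro i j hji
    rw [Matrix.mul_apply]
    apply Finset.sum_eq_zero
    intro k _
    by_cases hk : k < i
    · rw [h.2.1 i k hk, zero_mul]
    · rw [h'.2.1 k j (lt_of_lt_of_le hji (not_lt.1 hk)), mul_zero]
  · intro i j hij hnr
    rw [Matrix.mul_apply]
    apply Finset.sum_eq_zero
    intro k _
    rcases lt_trichotomy k i with hk | hk | hk
    · rw [h.2.1 i k hk, zero_mul]
    · subst hk
      rw [h'.2.2 k j hij hnr, mul_zero]
    · rcases lt_trichotomy k j with hkj | hkj | hkj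
      · by_cases h1 : r i k
        · by_cases h2 : r k j
          · exact absurd (hr i k j hk hkj h1 h2) hnr
          · rw [h'.2.2 k j hkj h2, mul_zero]
        · rw [h.2.2 i k hk h1, zero_mul]
      · subst hkj
        rw [h.2.2 i k hij hnr, zero_mul]
      · rw [h'.2.1 k j hkj, mul_zero]

theorem IsPat.pow {r : Fin N → Fin N → Prop}
    (hr : ∀ i j k, i < j → j < k → r i j → r j k → r i k)
    {M : Matrix (Fin N) (Fin N) F} (h : IsPat r M) (k : ℕ) : IsPat r (M ^ k) := by
  induction k with
  | zero => rw [pow_zero]; exact isPat_one r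
  | succ k ih => rw [pow_succ]; exact ih.mul hr h

/-- the inverse of a pattern matrix, over a finite field -/
theorem IsPat.inv [Finite F] {r : Fin N → Fin N → Prop}
    (hr : ∀ i j k, i < j → j < k → r i j → r j k → r i k)
    {g : GL (Fin N) F} (h : IsPat r (g : Matrix (Fin N) (Fin N) F)) :
    IsPat r ((g⁻¹ : GL (Fin N) F) : Matrix (Fin N) (Fin N) F) := by
  have hfin : IsOfFinOrder g := isOfFinOrder_of_finite g
  have hpos := hfin.orderOf_pos
  have e : g⁻¹ = g ^ (orderOf g - 1) := by
    rw [inv_eq_iff_mul_eq_one, ← pow_succ', Nat.sub_add_cancel hpos, pow_orderOf_eq_one]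
  rw [e, Units.val_pow_eq_pow_val]
  exact h.pow hr _

theorem IsPat.upper {r : Fin N → Fin N → Prop} {g : GL (Fin N) F}
    (h : IsPat r (g : Matrix (Fin N) (Fin N) F)) : g ∈ upperTriangularGL N F :=
  Cfsg.Agent.Lib.Helper5.GLBN.mem_upper.2 h.2.1

/-- a matrix with both patterns `r` and `r'` is trivial when `r` and `r'` are disjoint -/
theorem eq_one_of_isPat_of_isPat {r r' : Fin N → Fin N → Prop}
    (hd : ∀ i j, i < j → r i j → r' i j → False) {g : GL (Fin N) F}
    (h : IsPat r (g : Matrix (Fin N) (Fin N) F)) (h' : IsPat r' (g : Matrix (Fin N) (Fin N) F)) :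
    g = 1 := by
  apply Units.ext
  ext i j
  rw [Units.val_one]
  rcases lt_trichotomy i j with hij | hij | hij
  · rw [Matrix.one_apply_ne (ne_of_lt hij)]
    by_cases h1 : r i j
    · exact h'.2.2 i j hij (fun h2 => hd i j hij h1 h2)
    · exact h.2.2 i j hij h1
  · subst hij
    rw [Matrix.one_apply_eq, h.1]
  · rw [Matrix.one_apply_ne (ne_of_gt hij), h.2.1 i j hij]

/-! ### counting -/

/-- the positions of a pattern -/
def PIdx (N : ℕ) (r : Fin N → Fin N → Prop) : Type :=
  {p : Fin N × Fin N // p.1 < p.2 ∧ r p.1 p.2}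

instance (r : Fin N → Fin N → Prop) : Finite (PIdx N r) := by
  unfold PIdx; infer_instance

open Classical in
/-- the pattern matrix with given entries -/
noncomputable def patMat (r : Fin N → Fin N → Prop) (f : PIdx N r → F) :
    Matrix (Fin N) (Fin N) F := fun i j =>
  if i = j then 1 else if h : i < j ∧ r i j then f ⟨(i, j), h⟩ else 0

theorem patMat_isPat (r : Fin N → Fin N → Prop) (f : PIdx N r → F) : IsPat r (patMat r f) := by
  classical
  refine ⟨?_, ?_, ?_⟩
  · intro i
    unfold patMat
    rw [if_pos rfl]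
  · intro i j hji
    unfold patMat
    rw [if_neg (ne_of_gt hji), dif_neg]
    intro h
    exact absurd h.1 (not_lt.2 hji.le)
  · intro i j hij hnr
    unfold patMat
    rw [if_neg (ne_of_lt hij), dif_neg]
    intro h
    exact hnr h.2

theorem patMat_apply (r : Fin N → Fin N → Prop) (f : PIdx N r → F) (p : PIdx N r) :
    patMat r f p.1.1 p.1.2 = f p := by
  classical
  unfold patMat
  rw [if_neg (ne_of_lt p.2.1), dif_pos p.2]
  rfl

theorem det_of_isPat {r : Fin N → Fin N → Prop} {M : Matrix (Fin N) (Fin N) F}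
    (h : IsPat r M) : M.det = 1 := by
  have htri : M.BlockTriangular id := fun i j hij => h.2.1 i j hij
  rw [Matrix.det_of_isUpperTriangular htri]
  apply Finset.prod_eq_one
  intro i _
  exact h.1 i

/-- the pattern matrix as an element of the general linear group -/
noncomputable def patGL (r : Fin N → Fin N → Prop) (f : PIdx N r → F) : GL (Fin N) F :=
  Matrix.GeneralLinearGroup.mkOfDetNeZero (patMat r f) (by
    rw [det_of_isPat (patMat_isPat r f)]; exact one_ne_zero)

theorem patGL_coe (r : Fin N → Fin N → Prop) (f : PIdx N r → F) :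
    ((patGL r f : GL (Fin N) F) : Matrix (Fin N) (Fin N) F) = patMat r f := rfl

/-- the set of pattern matrices -/
def PatSet (N : ℕ) (F : Type*) [Field F] (r : Fin N → Fin N → Prop) : Type _ :=
  {g : GL (Fin N) F // IsPat r (g : Matrix (Fin N) (Fin N) F)}

/-- the entries of a pattern matrix -/
def patData (r : Fin N → Fin N → Prop) (g : PatSet N F r) : PIdx N r → F :=
  fun p => ((g.1 : GL (Fin N) F) : Matrix (Fin N) (Fin N) F) p.1.1 p.1.2

theorem patData_bijective (r : Fin N → Fin N → Prop) :
    Function.Bijective (patData (N := N) (F := F) r) := by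
  constructor
  · intro g g' h
    apply Subtype.ext
    apply Units.ext
    ext i j
    rcases lt_trichotomy i j with hij | hij | hij
    · by_cases h1 : r i j
      · exact congrFun h ⟨(i, j), hij, h1⟩
      · rw [g.2.2.2 i j hij h1, g'.2.2.2 i j hij h1]
    · subst hij
      rw [g.2.1, g'.2.1]
    · rw [g.2.2.1 i j hij, g'.2.2.1 i j hij]
  · intro f
    refine ⟨⟨patGL r f, patMat_isPat r f⟩, ?_⟩
    funext p
    exact patMat_apply r f p

theorem card_patSet [Finite F] (r : Fin N → Fin N → Prop) :
    Nat.card (PatSet N F r) = Nat.card F ^ Nat.card (PIdx N r) := by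
  rw [Nat.card_congr (Equiv.ofBijective _ (patData_bijective (N := N) (F := F) r)), Nat.card_fun]

/-- the positions above the diagonal split into the two patterns -/
def pidxMap (r r' : Fin N → Fin N → Prop) : PIdx N r ⊕ PIdx N r' → PIdx N (fun _ _ => True) :=
  Sum.elim (fun p => ⟨p.1, p.2.1, trivial⟩) (fun p => ⟨p.1, p.2.1, trivial⟩)

theorem pidxMap_bijective (r r' : Fin N → Fin N → Prop)
    (hd : ∀ i j, i < j → r i j → r' i j → False) (hc : ∀ i j, i < j → r i j ∨ r' i j) :
    Function.Bijective (pidxMap (N := N) r r') := by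
  constructor
  · rintro (p | p) (p' | p') h
    · have h1 : (pidxMap r r' (Sum.inl p)).1 = (pidxMap r r' (Sum.inl p')).1 :=
        congrArg (fun x => x.1) h
      exact congrArg Sum.inl (Subtype.ext h1)
    · exfalso
      have h1 : (pidxMap r r' (Sum.inl p)).1 = (pidxMap r r' (Sum.inr p')).1 :=
        congrArg (fun x => x.1) h
      have h1' : p.1 = p'.1 := h1
      have h2 := p'.2.2
      rw [← h1'] at h2
      exact hd _ _ p.2.1 p.2.2 h2
    · exfalso
      have h1 : (pidxMap r r' (Sum.inr p)).1 = (pidxMap r r' (Sum.inl p')).1 :=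
        congrArg (fun x => x.1) h
      have h1' : p.1 = p'.1 := h1
      have h2 := p.2.2
      rw [h1'] at h2
      exact hd _ _ p'.2.1 p'.2.2 h2
    · have h1 : (pidxMap r r' (Sum.inr p)).1 = (pidxMap r r' (Sum.inr p')).1 :=
        congrArg (fun x => x.1) h
      exact congrArg Sum.inr (Subtype.ext h1)
  · intro p
    by_cases h : r p.1.1 p.1.2
    · exact ⟨Sum.inl ⟨p.1, p.2.1, h⟩, rfl⟩
    · exact ⟨Sum.inr ⟨p.1, p.2.1, (hc _ _ p.2.1).resolve_left h⟩, rfl⟩

/-- **Factorization.**  If two transitive patterns are complementary, every unitriangular matrix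
is the product of a matrix with the first pattern and a matrix with the second. -/
theorem exists_factorization [Finite F] {r r' : Fin N → Fin N → Prop}
    (hr : ∀ i j k, i < j → j < k → r i j → r j k → r i k)
    (hr' : ∀ i j k, i < j → j < k → r' i j → r' j k → r' i k)
    (hd : ∀ i j, i < j → r i j → r' i j → False) (hc : ∀ i j, i < j → r i j ∨ r' i j)
    {u : GL (Fin N) F} (hu : IsUni (u : Matrix (Fin N) (Fin N) F)) :
    ∃ a b : GL (Fin N) F, IsPat r (a : Matrix (Fin N) (Fin N) F) ∧
      IsPat r' (b : Matrix (Fin N) (Fin N) F) ∧ u = a * b := by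
  have hall : ∀ i j k : Fin N, i < j → j < k → True → True → True := fun _ _ _ _ _ _ _ => trivial
  let φ : PatSet N F r × PatSet N F r' → PatSet N F (fun _ _ => True) := fun x =>
    ⟨x.1.1 * x.2.1, by
      rw [Units.val_mul]
      exact (x.1.2.isUni).mul hall (x.2.2.isUni)⟩
  have hinj : Function.Injective φ := by
    rintro ⟨a, b⟩ ⟨a', b'⟩ h
    have h1 : a.1 * b.1 = a'.1 * b'.1 := congrArg Subtype.val h
    have h2 : a'.1⁻¹ * a.1 = b'.1 * b.1⁻¹ := by
      rw [inv_mul_eq_iff_eq_mul, ← mul_assoc, ← h1, mul_assoc, mul_inv_cancel, mul_one]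
    have h3 : IsPat r ((a'.1⁻¹ * a.1 : GL (Fin N) F) : Matrix (Fin N) (Fin N) F) := by
      rw [Units.val_mul]; exact (a'.2.inv hr).mul hr a.2
    have h4 : IsPat r' ((a'.1⁻¹ * a.1 : GL (Fin N) F) : Matrix (Fin N) (Fin N) F) := by
      rw [h2, Units.val_mul]; exact b'.2.mul hr' (b.2.inv hr')
    have h5 := eq_one_of_isPat_of_isPat hd h3 h4
    have h6 : a.1 = a'.1 := by
      rw [inv_mul_eq_one] at h5; exact h5.symm
    have h7 : b.1 = b'.1 := by
      rw [h6] at h1; exact mul_left_cancel h1
    exact Prod.ext (Subtype.ext h6) (Subtype.ext h7)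
  have hfin : Finite (PatSet N F (fun _ _ => True)) := by
    unfold PatSet; infer_instance
  have hcard : Nat.card (PatSet N F (fun _ _ => True))
      ≤ Nat.card (PatSet N F r × PatSet N F r') := by
    rw [Nat.card_prod, card_patSet, card_patSet, card_patSet, ← pow_add,
      ← Nat.card_congr (Equiv.ofBijective _ (pidxMap_bijective r r' hd hc)), Nat.card_sum]
  have hbij := Function.Injective.bijective_of_nat_card_le hinj hcard
  obtain ⟨⟨a, b⟩, hab⟩ := hbij.2 ⟨u, hu⟩
  exact ⟨a.1, b.1, a.2, b.2, (congrArg Subtype.val hab).symm⟩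

end Cfsg.Agent.Lib.Helper8.Tw
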