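import Mathlib
import Cfsg.Agent.Lib.Helper8.Tw.Pat
import Cfsg.Agent.Lib.Helper8.SpBN.UGrp
import Cfsg.Agent.Lib.Helper5.BN

/-!
# The sharp Bruhat form in `GL_N(F)` (helper8)

Every `g ∈ GL_N(F)`, `F` finite, is uniquely `u * ν * w` with `u` upper unitriangular, `ν`
monomial with permutation `π`, and `w` unitriangular with entries only at the inversions of `π`.
-/

set_option autoImplicit false

namespace Cfsg.Agent.Lib.Helper8.Tw

open Matrix Cfsg Cfsg.Agent.Lib.Helper5.GLBN Cfsg.Agent.Lib.Helper5.BN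
open Cfsg.Agent.Lib.Helper8.SpBN
open scoped MatrixGroups

variable {N : ℕ} {F : Type*} [Field F]

theorem perm_inv_apply (π : Equiv.Perm (Fin N)) (i : Fin N) : π⁻¹ (π i) = i := by simp

theorem perm_apply_inv (π : Equiv.Perm (Fin N)) (i : Fin N) : π (π⁻¹ i) = i := by simp

/-- the non-inversions of a permutation -/
def rP (π : Equiv.Perm (Fin N)) (i j : Fin N) : Prop := π i < π j

/-- the inversions of a permutation -/
def rM (π : Equiv.Perm (Fin N)) (i j : Fin N) : Prop := π j < π i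

theorem rP_trans (π : Equiv.Perm (Fin N)) :
    ∀ i j k : Fin N, i < j → j < k → rP π i j → rP π j k → rP π i k :=
  fun _ _ _ _ _ h1 h2 => lt_trans h1 h2

theorem rM_trans (π : Equiv.Perm (Fin N)) :
    ∀ i j k : Fin N, i < j → j < k → rM π i j → rM π j k → rM π i k :=
  fun _ _ _ _ _ h1 h2 => lt_trans h2 h1

theorem rP_rM_disj (π : Equiv.Perm (Fin N)) :
    ∀ i j : Fin N, i < j → rP π i j → rM π i j → False :=
  fun _ _ _ h1 h2 => lt_asymm h1 h2

theorem rP_or_rM (π : Equiv.Perm (Fin N)) : ∀ i j : Fin N, i < j → rP π i j ∨ rM π i j :=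
  fun _ _ h => lt_or_gt_of_ne (fun e => (ne_of_lt h) (π.injective e))

theorem all_trans : ∀ i j k : Fin N, i < j → j < k → True → True → True :=
  fun _ _ _ _ _ _ _ => trivial

/-- lower unitriangular -/
def IsLowUni (M : Matrix (Fin N) (Fin N) F) : Prop := (∀ i, M i i = 1) ∧ ∀ i j, i < j → M i j = 0

/-- the entries of the conjugate of a matrix by a monomial matrix -/
theorem mono_conj_entry {ν : GL (Fin N) F} {π : Equiv.Perm (Fin N)}
    (hν : IsMono (ν : Matrix (Fin N) (Fin N) F) π) (g : GL (Fin N) F) (i j : Fin N) :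
    ((ν * g * ν⁻¹ : GL (Fin N) F) : Matrix (Fin N) (Fin N) F) (π i) (π j)
      = (ν : Matrix (Fin N) (Fin N) F) (π i) i * (g : Matrix (Fin N) (Fin N) F) i j
        * ((ν⁻¹ : GL (Fin N) F) : Matrix (Fin N) (Fin N) F) j (π j) := by
  rw [mul_assoc, Units.val_mul, hν.apply_mul, perm_inv_apply, Units.val_mul, hν.inv.mul_apply,
    perm_inv_apply, mul_assoc]

theorem mono_mul_inv_diag {ν : GL (Fin N) F} {π : Equiv.Perm (Fin N)}
    (hν : IsMono (ν : Matrix (Fin N) (Fin N) F) π) (i : Fin N) :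
    (ν : Matrix (Fin N) (Fin N) F) (π i) i
      * ((ν⁻¹ : GL (Fin N) F) : Matrix (Fin N) (Fin N) F) i (π i) = 1 := by
  rw [mul_comm]; exact IsMono_inv_apply hν i

/-- conjugating a matrix supported on the non-inversions -/
theorem conj_isUni_of_rP {ν : GL (Fin N) F} {π : Equiv.Perm (Fin N)}
    (hν : IsMono (ν : Matrix (Fin N) (Fin N) F) π) {u : GL (Fin N) F}
    (hu : IsPat (rP π) (u : Matrix (Fin N) (Fin N) F)) :
    IsUni ((ν * u * ν⁻¹ : GL (Fin N) F) : Matrix (Fin N) (Fin N) F) := by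
  rw [isUni_iff]
  constructor
  · intro a
    obtain ⟨i, rfl⟩ := π.surjective a
    rw [mono_conj_entry hν, hu.1, mul_one, mono_mul_inv_diag hν]
  · intro a b hba
    obtain ⟨i, rfl⟩ := π.surjective a
    obtain ⟨j, rfl⟩ := π.surjective b
    rw [mono_conj_entry hν]
    have h0 : (u : Matrix (Fin N) (Fin N) F) i j = 0 := by
      rcases lt_trichotomy i j with h | h | h
      · exact hu.2.2 i j h (fun hr => lt_asymm hr hba)
      · subst h; exact absurd hba (lt_irrefl _)
      · exact hu.2.1 i j h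
    rw [h0, mul_zero, zero_mul]

/-- conjugating a matrix supported on the inversions -/
theorem conj_isLowUni_of_rM {ν : GL (Fin N) F} {π : Equiv.Perm (Fin N)}
    (hν : IsMono (ν : Matrix (Fin N) (Fin N) F) π) {u : GL (Fin N) F}
    (hu : IsPat (rM π) (u : Matrix (Fin N) (Fin N) F)) :
    IsLowUni ((ν * u * ν⁻¹ : GL (Fin N) F) : Matrix (Fin N) (Fin N) F) := by
  constructor
  · intro a
    obtain ⟨i, rfl⟩ := π.surjective a
    rw [mono_conj_entry hν, hu.1, mul_one, mono_mul_inv_diag hν]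
  · intro a b hab
    obtain ⟨i, rfl⟩ := π.surjective a
    obtain ⟨j, rfl⟩ := π.surjective b
    rw [mono_conj_entry hν]
    have h0 : (u : Matrix (Fin N) (Fin N) F) i j = 0 := by
      rcases lt_trichotomy i j with h | h | h
      · exact hu.2.2 i j h (fun hr => lt_asymm hr hab)
      · subst h; exact absurd hab (lt_irrefl _)
      · exact hu.2.1 i j h
    rw [h0, mul_zero, zero_mul]

/-- an upper unitriangular matrix which is diagonal times lower unitriangular is trivial -/
theorem eq_one_of_isUni_of_diag_mul_low {x d l : GL (Fin N) F}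
    (hx : IsUni (x : Matrix (Fin N) (Fin N) F))
    (hd : IsMono (d : Matrix (Fin N) (Fin N) F) 1)
    (hl : IsLowUni (l : Matrix (Fin N) (Fin N) F)) (h : x = d * l) : x = 1 ∧ d = 1 ∧ l = 1 := by
  have hent : ∀ i j, (x : Matrix (Fin N) (Fin N) F) i j
      = (d : Matrix (Fin N) (Fin N) F) i i * (l : Matrix (Fin N) (Fin N) F) i j := by
    intro i j
    rw [h, Units.val_mul, hd.apply_mul, inv_one, Equiv.Perm.one_apply]
  have hx1 : x = 1 := by
    apply Units.ext
    ext i j
    rw [Units.val_one]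
    rcases lt_trichotomy i j with hij | hij | hij
    · rw [Matrix.one_apply_ne (ne_of_lt hij), hent, hl.2 i j hij, mul_zero]
    · subst hij; rw [Matrix.one_apply_eq, (isUni_iff.1 hx).1]
    · rw [Matrix.one_apply_ne (ne_of_gt hij), (isUni_iff.1 hx).2 i j hij]
  have hd1 : d = 1 := by
    apply Units.ext
    ext i j
    rw [Units.val_one]
    by_cases hij : i = j
    · subst hij
      have := hent i i
      rw [(isUni_iff.1 hx).1, hl.1, mul_one] at this
      rw [Matrix.one_apply_eq, ← this]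
    · rw [Matrix.one_apply_ne hij]
      exact hd i j (by simpa using hij)
  refine ⟨hx1, hd1, ?_⟩
  rw [hx1, hd1, one_mul] at h
  exact h.symm

/-- **Uniqueness of the sharp form.** -/
theorem sharp_unique [Finite F] {u v ν ν' w w' : GL (Fin N) F} {π : Equiv.Perm (Fin N)}
    (hu : IsUni (u : Matrix (Fin N) (Fin N) F)) (hv : IsUni (v : Matrix (Fin N) (Fin N) F))
    (hν : IsMono (ν : Matrix (Fin N) (Fin N) F) π) (hν' : IsMono (ν' : Matrix (Fin N) (Fin N) F) π)
    (hw : IsPat (rM π) (w : Matrix (Fin N) (Fin N) F))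
    (hw' : IsPat (rM π) (w' : Matrix (Fin N) (Fin N) F)) (h : u * ν * w = v * ν' * w') :
    u = v ∧ ν = ν' ∧ w = w' := by
  have hx : IsUni ((v⁻¹ * u : GL (Fin N) F) : Matrix (Fin N) (Fin N) F) := by
    rw [Units.val_mul]
    exact (IsPat.inv all_trans hv).mul all_trans hu
  have hd : IsMono ((ν' * ν⁻¹ : GL (Fin N) F) : Matrix (Fin N) (Fin N) F) 1 := by
    have := hν'.mul hν.inv
    rw [mul_inv_cancel] at this
    rw [Units.val_mul]
    exact this
  have hl : IsLowUni ((ν * (w' * w⁻¹) * ν⁻¹ : GL (Fin N) F) : Matrix (Fin N) (Fin N) F) := by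
    apply conj_isLowUni_of_rM hν
    rw [Units.val_mul]
    exact hw'.mul (rM_trans π) (hw.inv (rM_trans π))
  have e : v⁻¹ * u = (ν' * ν⁻¹) * (ν * (w' * w⁻¹) * ν⁻¹) := by
    have h1 : u = v * ν' * w' * w⁻¹ * ν⁻¹ := by
      rw [← h]; group
    rw [h1]; group
  obtain ⟨h1, h2, h3⟩ := eq_one_of_isUni_of_diag_mul_low hx hd hl e
  have huv : u = v := by
    rw [inv_mul_eq_one] at h1; exact h1.symm
  have hνν : ν = ν' := by
    rw [mul_inv_eq_one] at h2; exact h2.symm
  refine ⟨huv, hνν, ?_⟩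
  have h4 : w' * w⁻¹ = 1 := by
    have : ν * (w' * w⁻¹) * ν⁻¹ = ν * 1 * ν⁻¹ := by rw [h3]; group
    exact mul_left_cancel (mul_right_cancel this)
  rw [mul_inv_eq_one] at h4
  exact h4.symm

/-! ### existence -/

/-- the unitriangular part on the left of the diagonal -/
theorem isUni_mul_dgOf_inv {b : GL (Fin N) F} (hb : b ∈ upperTriangularGL N F) :
    IsUni ((b * (dgOf b hb)⁻¹ : GL (Fin N) F) : Matrix (Fin N) (Fin N) F) := by
  rw [isUni_iff]
  constructor
  · intro i
    rw [mul_dgOf_inv_apply]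
    exact mul_inv_cancel₀ (upper_diag_ne_zero hb i)
  · intro i j hji
    rw [mul_dgOf_inv_apply, (mem_upper.1 hb) i j hji, zero_mul]

theorem dgOf_inv_mul_apply {b : GL (Fin N) F} (hb : b ∈ upperTriangularGL N F) (i j : Fin N) :
    (((dgOf b hb)⁻¹ * b : GL (Fin N) F) : Matrix (Fin N) (Fin N) F) i j
      = ((b : Matrix (Fin N) (Fin N) F) i i)⁻¹ * (b : Matrix (Fin N) (Fin N) F) i j := by
  rw [Units.val_mul, dgOf_inv_coe, Matrix.diagonal_mul]

/-- the unitriangular part on the right of the diagonal -/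
theorem isUni_dgOf_inv_mul {b : GL (Fin N) F} (hb : b ∈ upperTriangularGL N F) :
    IsUni (((dgOf b hb)⁻¹ * b : GL (Fin N) F) : Matrix (Fin N) (Fin N) F) := by
  rw [isUni_iff]
  constructor
  · intro i
    rw [dgOf_inv_mul_apply]
    exact inv_mul_cancel₀ (upper_diag_ne_zero hb i)
  · intro i j hji
    rw [dgOf_inv_mul_apply, (mem_upper.1 hb) i j hji, mul_zero]

/-- **Existence of the sharp form.** -/
theorem exists_sharp [Finite F] (g : GL (Fin N) F) :
    ∃ (u ν w : GL (Fin N) F) (π : Equiv.Perm (Fin N)),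
      IsUni (u : Matrix (Fin N) (Fin N) F) ∧ IsMono (ν : Matrix (Fin N) (Fin N) F) π ∧
      IsPat (rM π) (w : Matrix (Fin N) (Fin N) F) ∧ g = u * ν * w := by
  obtain ⟨n, hn⟩ := exists_N_mem_D (glBN N F) g
  rw [mem_D] at hn
  obtain ⟨b, hb, b', hb', rfl⟩ := hn
  have hb0 : b ∈ upperTriangularGL N F := hb
  have hb0' : b' ∈ upperTriangularGL N F := hb'
  obtain ⟨π, hπ⟩ := mem_monoN.1 (n.2 : (n : GL (Fin N) F) ∈ monoN N F)
  -- the monomial part
  have hν2 : IsMono ((dgOf b hb0 * (n : GL (Fin N) F) * dgOf b' hb0' : GL (Fin N) F)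
      : Matrix (Fin N) (Fin N) F) π := by
    have := ((isMono_dgOf b hb0).mul hπ).mul (isMono_dgOf b' hb0')
    rw [one_mul, mul_one] at this
    rw [Units.val_mul, Units.val_mul]
    exact this
  obtain ⟨a, w, ha, hw, hfac⟩ := exists_factorization (rP_trans π) (rM_trans π) (rP_rM_disj π)
    (rP_or_rM π) (isUni_dgOf_inv_mul hb0')
  refine ⟨b * (dgOf b hb0)⁻¹ * ((dgOf b hb0 * (n : GL (Fin N) F) * dgOf b' hb0') * a
    * (dgOf b hb0 * (n : GL (Fin N) F) * dgOf b' hb0')⁻¹),
    dgOf b hb0 * (n : GL (Fin N) F) * dgOf b' hb0', w, π, ?_, hν2, hw, ?_⟩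
  · rw [Units.val_mul]
    exact (isUni_mul_dgOf_inv hb0).mul all_trans (conj_isUni_of_rP hν2 ha)
  · have h1 : b' = dgOf b' hb0' * (a * w) := by
      rw [← hfac]; group
    conv_lhs => rw [h1]
    group

end Cfsg.Agent.Lib.Helper8.Tw
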