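import Mathlib
import Cfsg.Agent.Lib.Helper8.Tw.Sharp

/-!
# Fixed points of an involution of `GL_N(F)` compatible with the `(B,N)`-pair (helper8)

If `σ` preserves the unitriangular matrices and sends a monomial matrix with permutation `π` to
one with permutation `rev π rev` (compatibly with the inversion patterns), then the three factors
of the sharp Bruhat form of a fixed point of `σ` are fixed by `σ`.
-/

set_option autoImplicit false

namespace Cfsg.Agent.Lib.Helper8.Tw

open Matrix Cfsg Cfsg.Agent.Lib.Helper5.GLBN Cfsg.Agent.Lib.Helper5.BN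
open Cfsg.Agent.Lib.Helper8.SpBN
open scoped MatrixGroups

variable {N : ℕ} {F : Type*} [Field F]

/-- conjugation of a permutation by the reversal -/
def revC (π : Equiv.Perm (Fin N)) : Equiv.Perm (Fin N) := Fin.revPerm * π * Fin.revPerm

theorem revC_apply (π : Equiv.Perm (Fin N)) (i : Fin N) : revC π i = (π i.rev).rev := rfl

theorem revC_one : revC (1 : Equiv.Perm (Fin N)) = 1 := by
  ext i
  rw [revC_apply, Equiv.Perm.one_apply, Fin.rev_rev, Equiv.Perm.one_apply]

theorem revC_eq_self_iff (π : Equiv.Perm (Fin N)) :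
    revC π = π ↔ ∀ i, π i.rev = (π i).rev := by
  constructor
  · intro h i
    have := congrArg (fun τ : Equiv.Perm (Fin N) => τ i.rev) h
    simp only [revC_apply, Fin.rev_rev] at this
    exact this.symm
  · intro h
    ext i
    rw [revC_apply, h, Fin.rev_rev]

/-- an involution of `GL_N(F)` compatible with the upper triangular and the monomial matrices -/
structure Twist (N : ℕ) (F : Type*) [Field F] where
  /-- the involution -/
  σ : GL (Fin N) F →* GL (Fin N) F
  invol : ∀ g, σ (σ g) = g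
  upper : ∀ g, g ∈ upperTriangularGL N F → σ g ∈ upperTriangularGL N F
  uni : ∀ g : GL (Fin N) F, IsUni (g : Matrix (Fin N) (Fin N) F) →
    IsUni ((σ g : GL (Fin N) F) : Matrix (Fin N) (Fin N) F)
  mono : ∀ (g : GL (Fin N) F) (π : Equiv.Perm (Fin N)),
    IsMono (g : Matrix (Fin N) (Fin N) F) π →
    IsMono ((σ g : GL (Fin N) F) : Matrix (Fin N) (Fin N) F) (revC π)
  pat : ∀ (g : GL (Fin N) F) (π : Equiv.Perm (Fin N)),
    IsPat (rM π) (g : Matrix (Fin N) (Fin N) F) →
    IsPat (rM (revC π)) ((σ g : GL (Fin N) F) : Matrix (Fin N) (Fin N) F)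

/-- the group of the fixed points -/
def Twist.fix (T : Twist N F) : Subgroup (GL (Fin N) F) :=
  MonoidHom.eqLocus T.σ (MonoidHom.id _)

theorem Twist.mem_fix (T : Twist N F) {g : GL (Fin N) F} : g ∈ T.fix ↔ T.σ g = g := Iff.rfl

/-- the double cosets of the upper triangular group: the permutation is determined -/
theorem perm_eq_of_bruhat {b₁ b₂ b₃ b₄ ν ν' : GL (Fin N) F} {π π' : Equiv.Perm (Fin N)}
    (h1 : b₁ ∈ upperTriangularGL N F) (h2 : b₂ ∈ upperTriangularGL N F)
    (h3 : b₃ ∈ upperTriangularGL N F) (h4 : b₄ ∈ upperTriangularGL N F)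
    (hν : IsMono (ν : Matrix (Fin N) (Fin N) F) π)
    (hν' : IsMono (ν' : Matrix (Fin N) (Fin N) F) π') (h : b₁ * ν * b₂ = b₃ * ν' * b₄) :
    π = π' := by
  have hN : ν ∈ (glBN N F).N := ⟨π, hν⟩
  have hN' : ν' ∈ (glBN N F).N := ⟨π', hν'⟩
  have hx1 : b₁ * ν * b₂ ∈ D (glBN N F) ν := (mem_D (glBN N F)).2 ⟨b₁, h1, b₂, h2, rfl⟩
  have hx2 : b₁ * ν * b₂ ∈ D (glBN N F) ν' := (mem_D (glBN N F)).2 ⟨b₃, h3, b₄, h4, h⟩
  have hD := D_eq_of_inter (glBN N F) hx1 hx2
  have hC : C (glBN N F) (proj (glBN N F) ⟨ν, hN⟩) = C (glBN N F) (proj (glBN N F) ⟨ν', hN'⟩) := by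
    rw [C_proj, C_proj]; exact hD
  have hp := bruhat (glBN N F) hC
  rw [proj_eq_iff] at hp
  have hB : ν⁻¹ * ν' ∈ upperTriangularGL N F := hp
  have hm : IsMono ((ν⁻¹ * ν' : GL (Fin N) F) : Matrix (Fin N) (Fin N) F) (π⁻¹ * π') := by
    rw [Units.val_mul]; exact hν.inv.mul hν'
  have := perm_eq_one_of_upper hm hB
  rw [inv_mul_eq_one] at this
  exact this

theorem IsUni.upper {g : GL (Fin N) F} (h : IsUni (g : Matrix (Fin N) (Fin N) F)) :
    g ∈ upperTriangularGL N F := IsPat.upper h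

/-- **The sharp form of a fixed point.** -/
theorem Twist.sharp_fixed [Finite F] (T : Twist N F) {g : GL (Fin N) F} (hg : T.σ g = g) :
    ∃ (u ν w : GL (Fin N) F) (π : Equiv.Perm (Fin N)),
      IsUni (u : Matrix (Fin N) (Fin N) F) ∧ IsMono (ν : Matrix (Fin N) (Fin N) F) π ∧
      IsPat (rM π) (w : Matrix (Fin N) (Fin N) F) ∧ g = u * ν * w ∧
      T.σ u = u ∧ T.σ ν = ν ∧ T.σ w = w := by
  obtain ⟨u, ν, w, π, hu, hν, hw, rfl⟩ := exists_sharp g
  have hσ : T.σ u * T.σ ν * T.σ w = u * ν * w := by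
    rw [← map_mul, ← map_mul]; exact hg
  have hπ : revC π = π :=
    perm_eq_of_bruhat (T.uni u hu).upper ((T.pat w π hw).isUni).upper hu.upper (hw.isUni).upper
      (T.mono ν π hν) hν hσ
  have hν' := T.mono ν π hν
  have hw' := T.pat w π hw
  rw [hπ] at hν' hw'
  obtain ⟨e1, e2, e3⟩ := sharp_unique (T.uni u hu) hu hν' hν hw' hw hσ
  exact ⟨u, ν, w, π, hu, hν, hw, rfl, e1, e2, e3⟩

/-- a fixed point in the double coset of a monomial matrix `ν₀` lies in the double coset, for the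
fixed points of the upper triangular group, of a fixed monomial matrix with the same permutation -/
theorem Twist.bruhat_fixed [Finite F] (T : Twist N F) {g b b' ν₀ : GL (Fin N) F}
    {π : Equiv.Perm (Fin N)} (hg : T.σ g = g) (hb : b ∈ upperTriangularGL N F)
    (hb' : b' ∈ upperTriangularGL N F) (hν₀ : IsMono (ν₀ : Matrix (Fin N) (Fin N) F) π)
    (h : g = b * ν₀ * b') :
    ∃ u ν w : GL (Fin N) F, IsUni (u : Matrix (Fin N) (Fin N) F) ∧
      IsMono (ν : Matrix (Fin N) (Fin N) F) π ∧ IsUni (w : Matrix (Fin N) (Fin N) F) ∧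
      g = u * ν * w ∧ T.σ u = u ∧ T.σ ν = ν ∧ T.σ w = w := by
  obtain ⟨u, ν, w, π', hu, hν, hw, e, e1, e2, e3⟩ := T.sharp_fixed hg
  have hπ : π' = π :=
    perm_eq_of_bruhat hu.upper (hw.isUni).upper hb hb' hν hν₀ (e.symm.trans h)
  subst hπ
  exact ⟨u, ν, w, hu, hν, hw.isUni, e, e1, e2, e3⟩

end Cfsg.Agent.Lib.Helper8.Tw
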