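import Mathlib
import Cfsg.Agent.Lib.Helper8.Tw.Fix

/-!
# Products of Bruhat cells of `GL_N(F)` (helper8)

The product of the cell of a permutation `h` lying in a subgroup generated by adjacent
transpositions with the cell of `π` is contained in the union of the cells of the `w π`, `w` in
that subgroup.
-/

set_option autoImplicit false

namespace Cfsg.Agent.Lib.Helper8.Tw

open Matrix Cfsg Cfsg.Agent.Lib.Helper5.GLBN Cfsg.Agent.Lib.Helper5.BN DoubleCoset
open scoped MatrixGroups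

variable {N : ℕ} {F : Type*} [Field F]

/-- the Bruhat cell of a permutation -/
def cellP (N : ℕ) (F : Type*) [Field F] (π : Equiv.Perm (Fin N)) : Set (GL (Fin N) F) :=
  {g | ∃ b ∈ upperTriangularGL N F, ∃ b' ∈ upperTriangularGL N F, ∃ ν : GL (Fin N) F,
    IsMono (ν : Matrix (Fin N) (Fin N) F) π ∧ g = b * ν * b'}

theorem mem_cellP_of_mono {ν : GL (Fin N) F} {π : Equiv.Perm (Fin N)}
    (hν : IsMono (ν : Matrix (Fin N) (Fin N) F) π) : ν ∈ cellP N F π :=
  ⟨1, one_mem _, 1, one_mem _, ν, hν, by rw [one_mul, mul_one]⟩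

theorem cellP_upper_mul {b g : GL (Fin N) F} {π : Equiv.Perm (Fin N)}
    (hb : b ∈ upperTriangularGL N F) (hg : g ∈ cellP N F π) : b * g ∈ cellP N F π := by
  obtain ⟨b1, hb1, b2, hb2, ν, hν, rfl⟩ := hg
  exact ⟨b * b1, mul_mem hb hb1, b2, hb2, ν, hν, by simp only [mul_assoc]⟩

theorem cellP_mul_upper {b g : GL (Fin N) F} {π : Equiv.Perm (Fin N)}
    (hb : b ∈ upperTriangularGL N F) (hg : g ∈ cellP N F π) : g * b ∈ cellP N F π := by
  obtain ⟨b1, hb1, b2, hb2, ν, hν, rfl⟩ := hg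
  exact ⟨b1, hb1, b2 * b, mul_mem hb2 hb, ν, hν, by simp only [mul_assoc]⟩

theorem mem_upper_of_mem_cellP_one {g : GL (Fin N) F} (hg : g ∈ cellP N F 1) :
    g ∈ upperTriangularGL N F := by
  obtain ⟨b1, hb1, b2, hb2, ν, hν, rfl⟩ := hg
  exact mul_mem (mul_mem hb1 (mem_upper_of_isMono_one hν)) hb2

theorem isMono_permGL (π : Equiv.Perm (Fin N)) :
    IsMono ((permGL π : GL (Fin N) F) : Matrix (Fin N) (Fin N) F) π := by
  rw [permGL_coe]; exact isMono_pm π

/-- the product of the cell of an adjacent transposition with another cell -/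
theorem cellP_adj_mul {k k' : Fin N} (hk : (k : ℕ) + 1 = k') {π : Equiv.Perm (Fin N)}
    {x y : GL (Fin N) F} (hx : x ∈ cellP N F (Equiv.swap k k')) (hy : y ∈ cellP N F π) :
    x * y ∈ cellP N F (Equiv.swap k k' * π) ∪ cellP N F π := by
  obtain ⟨b1, hb1, b2, hb2, ν1, hν1, rfl⟩ := hx
  obtain ⟨b3, hb3, b4, hb4, ν, hν, rfl⟩ := hy
  set s : GL (Fin N) F := permGL (Equiv.swap k k') with hs
  have hsS : s ∈ adjS N F := ⟨k, k', hk, rfl⟩
  have hd : IsMono ((s⁻¹ * ν1 : GL (Fin N) F) : Matrix (Fin N) (Fin N) F) 1 := by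
    have h1 := (isMono_permGL (F := F) (Equiv.swap k k')).inv.mul hν1
    rw [inv_mul_cancel] at h1
    rw [Units.val_mul]
    exact h1
  have hdB := mem_upper_of_isMono_one hd
  have e : b1 * ν1 * b2 * (b3 * ν * b4)
      = b1 * (s * ((s⁻¹ * ν1) * b2 * b3) * ν) * b4 := by group
  rw [e]
  have hmem := mul_mem_union_aux hsS (⟨π, hν⟩ : ν ∈ monoN N F)
    (mul_mem (mul_mem hdB hb2) hb3)
  rcases hmem with h | h
  · left
    rw [mem_doubleCoset] at h
    obtain ⟨β, hβ, β', hβ', h⟩ := h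
    rw [h]
    refine ⟨b1 * β, mul_mem hb1 hβ, β' * b4, mul_mem hβ' hb4, s * ν, ?_, by
      simp only [mul_assoc]⟩
    rw [Units.val_mul]
    exact (isMono_permGL _).mul hν
  · right
    rw [mem_doubleCoset] at h
    obtain ⟨β, hβ, β', hβ', h⟩ := h
    rw [h]
    exact ⟨b1 * β, mul_mem hb1 hβ, β' * b4, mul_mem hβ' hb4, ν, hν, by simp only [mul_assoc]⟩

/-- the product of the cell of an element of a subgroup generated by adjacent transpositions
with another cell -/
theorem cellP_closure_mul {A : Set (Equiv.Perm (Fin N))}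
    (hA : ∀ τ ∈ A, ∃ k k' : Fin N, (k : ℕ) + 1 = k' ∧ τ = Equiv.swap k k')
    {h : Equiv.Perm (Fin N)} (hh : h ∈ Subgroup.closure A) :
    ∀ x ∈ cellP N F h, ∀ (π : Equiv.Perm (Fin N)) (y : GL (Fin N) F), y ∈ cellP N F π →
      ∃ w ∈ Subgroup.closure A, x * y ∈ cellP N F (w * π) := by
  have step : ∀ τ ∈ A, ∀ h' : Equiv.Perm (Fin N),
      (∀ x ∈ cellP N F h', ∀ (π : Equiv.Perm (Fin N)) (y : GL (Fin N) F), y ∈ cellP N F π →
        ∃ w ∈ Subgroup.closure A, x * y ∈ cellP N F (w * π)) →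
      ∀ x ∈ cellP N F (τ * h'), ∀ (π : Equiv.Perm (Fin N)) (y : GL (Fin N) F),
        y ∈ cellP N F π → ∃ w ∈ Subgroup.closure A, x * y ∈ cellP N F (w * π) := by
    intro τ hτ h' ih x hx π y hy
    obtain ⟨k, k', hk, rfl⟩ := hA τ hτ
    obtain ⟨b1, hb1, b2, hb2, ν, hν, rfl⟩ := hx
    set s : GL (Fin N) F := permGL (Equiv.swap k k') with hs
    have hν' : IsMono ((s⁻¹ * ν : GL (Fin N) F) : Matrix (Fin N) (Fin N) F) h' := by
      have h1 := (isMono_permGL (F := F) (Equiv.swap k k')).inv.mul hν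
      rw [inv_mul_cancel_left] at h1
      rw [Units.val_mul]
      exact h1
    have hx' : s⁻¹ * ν * b2 ∈ cellP N F h' := cellP_mul_upper hb2 (mem_cellP_of_mono hν')
    obtain ⟨w, hw, hwy⟩ := ih _ hx' π y hy
    have hs' : b1 * s ∈ cellP N F (Equiv.swap k k') :=
      cellP_upper_mul hb1 (mem_cellP_of_mono (isMono_permGL _))
    have e : b1 * ν * b2 * y = (b1 * s) * (s⁻¹ * ν * b2 * y) := by group
    rw [e]
    rcases cellP_adj_mul hk hs' hwy with h1 | h1
    · refine ⟨Equiv.swap k k' * w, mul_mem (Subgroup.subset_closure hτ) hw, ?_⟩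
      rw [mul_assoc]; exact h1
    · exact ⟨w, hw, h1⟩
  induction hh using Subgroup.closure_induction_left with
  | one =>
    intro x hx π y hy
    exact ⟨1, one_mem _, by rw [one_mul]; exact cellP_upper_mul (mem_upper_of_mem_cellP_one hx) hy⟩
  | mul_left τ hτ h' _ ih => exact step τ hτ h' ih
  | inv_mul_cancel τ hτ h' _ ih =>
    obtain ⟨k, k', _, e⟩ := hA τ hτ
    have : τ⁻¹ = τ := by rw [e, Equiv.swap_inv]
    rw [this]
    exact step τ hτ h' ih

end Cfsg.Agent.Lib.Helper8.Tw
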