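import Mathlib
import Cfsg.Agent.Lib.Helper8.SpBN.Sigma

/-!
# The unitary group of the antidiagonal Hermitian form as fixed points in `GL_N(F)` (helper8)

`usig φ g = R (φ(g)⁻¹)ᵀ R`, where `R` is the reversal permutation matrix and `φ` a ring
endomorphism of `F` (an involution in the applications).  The fixed points of `usig φ` are the
matrices `g` with `gᵀ R φ(g) = R`.
-/

set_option autoImplicit false

namespace Cfsg.Agent.Lib.Helper8.Tw

open Matrix Cfsg Cfsg.Agent.Lib.Helper5.GLBN
open Cfsg.Agent.Lib.Helper8.SpBN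
open scoped MatrixGroups

variable {N : ℕ} {F : Type*} [Field F]

/-- the reversal permutation matrix -/
def RG (N : ℕ) (F : Type*) [Field F] : GL (Fin N) F := permGL Fin.revPerm

theorem revPerm_mul_self : (Fin.revPerm : Equiv.Perm (Fin N)) * Fin.revPerm = 1 := by
  ext i
  rw [Equiv.Perm.mul_apply, Fin.revPerm_apply, Fin.revPerm_apply, Fin.rev_rev,
    Equiv.Perm.one_apply]

theorem revPerm_inv' : (Fin.revPerm : Equiv.Perm (Fin N))⁻¹ = Fin.revPerm :=
  inv_eq_of_mul_eq_one_left revPerm_mul_self

theorem RG_mul_RG : RG N F * RG N F = 1 := by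
  unfold RG
  rw [← map_mul, revPerm_mul_self, map_one]

theorem RG_inv : (RG N F)⁻¹ = RG N F := inv_eq_of_mul_eq_one_left RG_mul_RG

theorem RG_apply (i j : Fin N) :
    ((RG N F : GL (Fin N) F) : Matrix (Fin N) (Fin N) F) i j = if i = j.rev then 1 else 0 := by
  unfold RG
  rw [permGL_coe, pm_apply, Fin.revPerm_apply]

theorem isMono_RG :
    IsMono ((RG N F : GL (Fin N) F) : Matrix (Fin N) (Fin N) F) Fin.revPerm := by
  unfold RG
  rw [permGL_coe]
  exact isMono_pm _

theorem RG_rev_apply (i : Fin N) :
    ((RG N F : GL (Fin N) F) : Matrix (Fin N) (Fin N) F) i.rev i = 1 := by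
  rw [RG_apply, if_pos rfl]

theorem RG_apply_rev (i : Fin N) :
    ((RG N F : GL (Fin N) F) : Matrix (Fin N) (Fin N) F) i i.rev = 1 := by
  rw [RG_apply, if_pos (Fin.rev_rev i).symm]

/-- the twisted inverse transpose -/
def usig (φ : F →+* F) : GL (Fin N) F →* GL (Fin N) F where
  toFun g := RG N F * invT (Matrix.GeneralLinearGroup.map φ g) * RG N F
  map_one' := by rw [map_one, invT_one, mul_one, RG_mul_RG]
  map_mul' g h := by
    rw [map_mul, invT_mul]
    have := RG_mul_RG (N := N) (F := F)
    calc RG N F * (invT (Matrix.GeneralLinearGroup.map φ g)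
          * invT (Matrix.GeneralLinearGroup.map φ h)) * RG N F
        = RG N F * invT (Matrix.GeneralLinearGroup.map φ g) * 1
          * invT (Matrix.GeneralLinearGroup.map φ h) * RG N F := by group
      _ = _ := by rw [← this]; group

theorem usig_def (φ : F →+* F) (g : GL (Fin N) F) :
    usig φ g = RG N F * invT (Matrix.GeneralLinearGroup.map φ g) * RG N F := rfl

theorem usig_apply (φ : F →+* F) (g : GL (Fin N) F) (a b : Fin N) :
    ((usig φ g : GL (Fin N) F) : Matrix (Fin N) (Fin N) F) a b
      = φ (((g⁻¹ : GL (Fin N) F) : Matrix (Fin N) (Fin N) F) b.rev a.rev) := by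
  rw [usig_def, Units.val_mul, Units.val_mul, isMono_RG.mul_apply, isMono_RG.apply_mul,
    revPerm_inv', Fin.revPerm_apply, Fin.revPerm_apply, RG_apply_rev, RG_rev_apply, one_mul,
    mul_one, invT_coe, Matrix.transpose_apply, ← map_inv]
  exact Matrix.GeneralLinearGroup.map_apply φ _ _ _

theorem usig_usig (φ : F →+* F) (hφ : ∀ x, φ (φ x) = x) (g : GL (Fin N) F) :
    usig φ (usig φ g) = g := by
  apply Units.ext
  ext a b
  rw [usig_apply, ← map_inv, usig_apply, inv_inv, Fin.rev_rev, Fin.rev_rev, hφ]

/-- the unitary group of the antidiagonal form -/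
def UH (N : ℕ) (F : Type*) [Field F] (φ : F →+* F) : Subgroup (GL (Fin N) F) :=
  (usig φ).eqLocus (MonoidHom.id _)

theorem mem_UH {φ : F →+* F} {g : GL (Fin N) F} : g ∈ UH N F φ ↔ usig φ g = g := Iff.rfl

theorem mem_UH_iff {φ : F →+* F} {g : GL (Fin N) F} :
    g ∈ UH N F φ ↔ ∀ a b, (g : Matrix (Fin N) (Fin N) F) a b
      = φ (((g⁻¹ : GL (Fin N) F) : Matrix (Fin N) (Fin N) F) b.rev a.rev) := by
  rw [mem_UH]
  constructor
  · intro h a b
    rw [← usig_apply, h]
  · intro h
    apply Units.ext
    ext a b
    rw [usig_apply, ← h]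

theorem invT_RG : invT (RG N F) = RG N F := by
  apply Units.ext
  ext a b
  rw [invT_coe, RG_inv, Matrix.transpose_apply, RG_apply, RG_apply]
  by_cases h : a = b.rev
  · rw [if_pos h, if_pos (by rw [h, Fin.rev_rev])]
  · rw [if_neg h, if_neg]
    intro h'
    apply h
    rw [h', Fin.rev_rev]

theorem invT_invT (g : GL (Fin N) F) : invT (invT g) = g := by
  apply Units.ext
  rw [invT_coe]
  have : (invT g)⁻¹ = invT g⁻¹ := by
    rw [inv_eq_iff_mul_eq_one, ← invT_mul, mul_inv_cancel, invT_one]
  rw [this, invT_coe, inv_inv, Matrix.transpose_transpose]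

/-- the matrix form of the definition: `g` is fixed iff `gᵀ R φ(g) = R` -/
theorem mem_UH_iff_mul {φ : F →+* F} {g : GL (Fin N) F} :
    g ∈ UH N F φ ↔ (g : Matrix (Fin N) (Fin N) F)ᵀ
        * ((RG N F : GL (Fin N) F) : Matrix (Fin N) (Fin N) F)
        * (g : Matrix (Fin N) (Fin N) F).map φ
      = ((RG N F : GL (Fin N) F) : Matrix (Fin N) (Fin N) F) := by
  have hmap : ((Matrix.GeneralLinearGroup.map φ g : GL (Fin N) F) : Matrix (Fin N) (Fin N) F)
      = (g : Matrix (Fin N) (Fin N) F).map φ := rfl
  have hT : (g : Matrix (Fin N) (Fin N) F)ᵀ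
      = ((invT g⁻¹ : GL (Fin N) F) : Matrix (Fin N) (Fin N) F) := by
    rw [invT_coe, inv_inv]
  rw [mem_UH, usig_def, hT, ← hmap, ← Units.val_mul, ← Units.val_mul, Units.val_inj]
  have hR := RG_mul_RG (N := N) (F := F)
  constructor
  · intro h
    have h1 : Matrix.GeneralLinearGroup.map φ g = RG N F * invT g * RG N F := by
      have h2 : invT (Matrix.GeneralLinearGroup.map φ g) = RG N F * g * RG N F := by
        calc invT (Matrix.GeneralLinearGroup.map φ g)
            = RG N F * (RG N F * invT (Matrix.GeneralLinearGroup.map φ g) * RG N F) * RG N F := by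
              calc invT (Matrix.GeneralLinearGroup.map φ g)
                  = 1 * invT (Matrix.GeneralLinearGroup.map φ g) * 1 := by group
                _ = (RG N F * RG N F) * invT (Matrix.GeneralLinearGroup.map φ g)
                    * (RG N F * RG N F) := by rw [hR]
                _ = _ := by group
          _ = _ := by rw [h]
      have h3 := congrArg invT h2
      rw [invT_invT, invT_mul, invT_mul, invT_RG] at h3
      exact h3
    rw [h1]
    have : invT g⁻¹ * invT g = 1 := by rw [← invT_mul, inv_mul_cancel, invT_one]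
    calc invT g⁻¹ * RG N F * (RG N F * invT g * RG N F)
        = invT g⁻¹ * (RG N F * RG N F) * invT g * RG N F := by group
      _ = (invT g⁻¹ * invT g) * RG N F := by rw [hR]; group
      _ = RG N F := by rw [this, one_mul]
  · intro h
    have h1 : Matrix.GeneralLinearGroup.map φ g = RG N F * invT g * RG N F := by
      have : invT g * invT g⁻¹ = 1 := by rw [← invT_mul, mul_inv_cancel, invT_one]
      have h2 : RG N F * Matrix.GeneralLinearGroup.map φ g = invT g * RG N F := by
        calc RG N F * Matrix.GeneralLinearGroup.map φ g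
            = (invT g * invT g⁻¹) * (RG N F * Matrix.GeneralLinearGroup.map φ g) := by
              rw [this, one_mul]
          _ = invT g * (invT g⁻¹ * RG N F * Matrix.GeneralLinearGroup.map φ g) := by
              simp only [mul_assoc]
          _ = invT g * RG N F := by rw [h]
      calc Matrix.GeneralLinearGroup.map φ g
          = (RG N F * RG N F) * Matrix.GeneralLinearGroup.map φ g := by rw [hR, one_mul]
        _ = RG N F * (RG N F * Matrix.GeneralLinearGroup.map φ g) := by rw [mul_assoc]
        _ = _ := by rw [h2, mul_assoc]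
    rw [h1, invT_mul, invT_mul, invT_RG, invT_invT]
    calc RG N F * (RG N F * g * RG N F) * RG N F
        = (RG N F * RG N F) * g * (RG N F * RG N F) := by group
      _ = g := by rw [hR, one_mul, mul_one]

end Cfsg.Agent.Lib.Helper8.Tw
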