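import Mathlib
import Cfsg.Agent.Lib.Helper8.Tw.Cell
import Cfsg.Agent.Lib.Helper8.Tw.UDef

/-!
# The (B,N)-pair of the fixed points of a twist of `GL_N(F)` (helper8)
-/

set_option autoImplicit false

namespace Cfsg.Agent.Lib.Helper8.Tw

open Matrix Cfsg Cfsg.Agent.Lib.Helper5.GLBN Cfsg.Agent.Lib.Helper5.BN DoubleCoset
open Cfsg.Agent.Lib.Helper8.SpBN
open scoped MatrixGroups

variable {N : ℕ} {F : Type*} [Field F]

theorem revC_mul (π π' : Equiv.Perm (Fin N)) : revC (π * π') = revC π * revC π' := by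
  ext i
  rw [Equiv.Perm.mul_apply, revC_apply, revC_apply, revC_apply, Equiv.Perm.mul_apply, Fin.rev_rev]

theorem IsPat.mono' {r r' : Fin N → Fin N → Prop} (h : ∀ i j, i < j → r i j → r' i j)
    {M : Matrix (Fin N) (Fin N) F} (hM : IsPat r M) : IsPat r' M :=
  ⟨hM.1, hM.2.1, fun i j hij hn => hM.2.2 i j hij (fun hr => hn (h i j hij hr))⟩

/-- a twist together with the data of the simple reflections of the fixed points -/
structure TwData (N : ℕ) (F : Type*) [Field F] extends Twist N F where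
  /-- the rank -/
  l : ℕ
  /-- the permutations of the simple reflections -/
  ρ : ℕ → Equiv.Perm (Fin N)
  ρ_sq : ∀ j < l, ρ j * ρ j = 1
  ρ_fix : ∀ j < l, σ (permGL (ρ j)) = permGL (ρ j)
  gen : ∀ (ν : GL (Fin N) F) (π : Equiv.Perm (Fin N)), σ ν = ν →
    IsMono (ν : Matrix (Fin N) (Fin N) F) π → π ∈ Subgroup.closure (ρ '' Set.Iio l)
  adj : ∀ j < l, ∃ A : Set (Equiv.Perm (Fin N)),
    (∀ τ ∈ A, ∃ k k' : Fin N, (k : ℕ) + 1 = k' ∧ τ = Equiv.swap k k') ∧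
    ρ j ∈ Subgroup.closure A ∧ ∀ w ∈ Subgroup.closure A, revC w = w → w = 1 ∨ w = ρ j
  root : ∀ j < l, ∃ b : GL (Fin N) F, σ b = b ∧
    IsPat (rM (ρ j)) (b : Matrix (Fin N) (Fin N) F) ∧ b ≠ 1
  rev_fix : σ (RG N F) = RG N F

variable (T : TwData N F)

/-- the group of the fixed points -/
abbrev TwData.G : Subgroup (GL (Fin N) F) := T.toTwist.fix

/-- the Borel subgroup -/
def TwData.BF : Subgroup ↥T.G := (upperTriangularGL N F).subgroupOf T.G

/-- the monomial subgroup -/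
def TwData.NF : Subgroup ↥T.G := (monoN N F).subgroupOf T.G

/-- the simple reflections -/
def TwData.SF : Set ↥T.G := {s | ∃ j < T.l, (s : GL (Fin N) F) = permGL (T.ρ j)}

theorem TwData.mem_G {g : GL (Fin N) F} : g ∈ T.G ↔ T.σ g = g := Iff.rfl

theorem TwData.mem_BF {g : ↥T.G} :
    g ∈ T.BF ↔ (g : GL (Fin N) F) ∈ upperTriangularGL N F := Subgroup.mem_subgroupOf

theorem TwData.mem_NF {g : ↥T.G} : g ∈ T.NF ↔ (g : GL (Fin N) F) ∈ monoN N F :=
  Subgroup.mem_subgroupOf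

theorem TwData.revC_of_fixed {ν : GL (Fin N) F} {π : Equiv.Perm (Fin N)} (hν : T.σ ν = ν)
    (hπ : IsMono (ν : Matrix (Fin N) (Fin N) F) π) : revC π = π := by
  have := T.mono ν π hπ
  rw [hν] at this
  exact this.unique hπ

theorem TwData.sup_eq_top_F [Finite F] : T.BF ⊔ T.NF = ⊤ := by
  rw [eq_top_iff]
  intro g _
  obtain ⟨u, ν, w, π, hu, hν, hw, e, e1, e2, e3⟩ := T.toTwist.sharp_fixed g.2
  have : g = (⟨u, e1⟩ : ↥T.G) * ⟨ν, e2⟩ * ⟨w, e3⟩ := Subtype.ext (by simpa using e)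
  rw [this]
  exact mul_mem (mul_mem (Subgroup.mem_sup_left (T.mem_BF.2 hu.upper))
    (Subgroup.mem_sup_right (T.mem_NF.2 ⟨π, hν⟩)))
    (Subgroup.mem_sup_left (T.mem_BF.2 hw.isUni.upper))

theorem TwData.sq_mem_F (s : ↥T.G) (hs : s ∈ T.SF) : s * s ∈ T.BF := by
  obtain ⟨j, hj, e⟩ := hs
  rw [T.mem_BF, Subgroup.coe_mul, e, ← map_mul, T.ρ_sq j hj, map_one]
  exact one_mem _

theorem TwData.sq_eq_one {s : ↥T.G} (hs : s ∈ T.SF) : s * s = 1 := by
  obtain ⟨j, hj, e⟩ := hs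
  apply Subtype.ext
  rw [Subgroup.coe_mul, e, ← map_mul, T.ρ_sq j hj, map_one]
  rfl

theorem TwData.inj_F (s : ↥T.G) (hs : s ∈ T.SF) (s' : ↥T.G) (hs' : s' ∈ T.SF)
    (h : s⁻¹ * s' ∈ T.BF) : s = s' := by
  obtain ⟨j, hj, e⟩ := hs
  obtain ⟨j', hj', e'⟩ := hs'
  rw [T.mem_BF, Subgroup.coe_mul, Subgroup.coe_inv, e, e', ← map_inv, ← map_mul] at h
  have h1 := perm_eq_one_of_upper (isMono_permGL _) h
  rw [inv_mul_eq_one] at h1
  apply Subtype.ext
  rw [e, e', h1]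

theorem TwData.exists_closure_SF {π : Equiv.Perm (Fin N)}
    (hπ : π ∈ Subgroup.closure (T.ρ '' Set.Iio T.l)) :
    ∃ w ∈ Subgroup.closure T.SF, ((w : ↥T.G) : GL (Fin N) F) = permGL π := by
  induction hπ using Subgroup.closure_induction with
  | mem x hx =>
    obtain ⟨j, hj, rfl⟩ := hx
    exact ⟨⟨permGL (T.ρ j), T.ρ_fix j hj⟩, Subgroup.subset_closure ⟨j, hj, rfl⟩, rfl⟩
  | one => exact ⟨1, one_mem _, by rw [map_one]; rfl⟩
  | mul x y _ _ hx hy =>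
    obtain ⟨w, hw, e⟩ := hx
    obtain ⟨w', hw', e'⟩ := hy
    exact ⟨w * w', mul_mem hw hw', by rw [Subgroup.coe_mul, e, e', map_mul]⟩
  | inv x _ hx =>
    obtain ⟨w, hw, e⟩ := hx
    exact ⟨w⁻¹, inv_mem hw, by rw [Subgroup.coe_inv, e, map_inv]⟩

theorem TwData.closure_sup_F : Subgroup.closure T.SF ⊔ (T.BF ⊓ T.NF) = T.NF := by
  apply le_antisymm
  · apply sup_le
    · rw [Subgroup.closure_le]
      rintro s ⟨j, hj, e⟩
      exact T.mem_NF.2 (e ▸ permGL_mem _)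
    · exact inf_le_right
  · intro n hn
    obtain ⟨π, hπ⟩ := T.mem_NF.1 hn
    obtain ⟨w, hw, hwπ⟩ := T.exists_closure_SF (T.gen n π n.2 hπ)
    have hd : IsMono (((w⁻¹ * n : ↥T.G) : GL (Fin N) F) : Matrix (Fin N) (Fin N) F) 1 := by
      have h1 := (isMono_permGL (F := F) π).inv.mul hπ
      rw [inv_mul_cancel] at h1
      rw [Subgroup.coe_mul, Subgroup.coe_inv, hwπ, Units.val_mul]
      exact h1
    have : n = w * (w⁻¹ * n) := by group
    rw [this]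
    exact mul_mem (Subgroup.mem_sup_left hw) (Subgroup.mem_sup_right
      ⟨T.mem_BF.2 (mem_upper_of_isMono_one hd), T.mem_NF.2 ⟨1, hd⟩⟩)

theorem TwData.mul_mem_union_F [Finite F] (s : ↥T.G) (hs : s ∈ T.SF) (n : ↥T.G)
    (hn : n ∈ T.NF) (b : ↥T.G) (hb : b ∈ T.BF) :
    s * b * n ∈ doubleCoset (s * n) (T.BF : Set ↥T.G) T.BF ∪
      doubleCoset n (T.BF : Set ↥T.G) T.BF := by
  obtain ⟨j, hj, e⟩ := hs
  obtain ⟨π, hπ⟩ := T.mem_NF.1 hn
  obtain ⟨A, hA, hρA, hAw⟩ := T.adj j hj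
  have hsb : (s : GL (Fin N) F) * b ∈ cellP N F (T.ρ j) := by
    apply cellP_mul_upper (T.mem_BF.1 hb)
    rw [e]
    exact mem_cellP_of_mono (isMono_permGL _)
  obtain ⟨w, hw, hx⟩ := cellP_closure_mul hA hρA _ hsb π _ (mem_cellP_of_mono hπ)
  obtain ⟨β, hβ, β', hβ', ν₀, hν₀, hx⟩ := hx
  have hfix : T.σ ((s : GL (Fin N) F) * b * n) = (s : GL (Fin N) F) * b * n := (s * b * n).2
  obtain ⟨u, ν, w', hu, hν, hw', e0, e1, e2, e3⟩ :=
    T.toTwist.bruhat_fixed hfix hβ hβ' hν₀ hx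
  have hπc : revC π = π := T.revC_of_fixed n.2 hπ
  have hwc : revC w = w := by
    have h1 := T.revC_of_fixed e2 hν
    rw [revC_mul, hπc] at h1
    exact mul_right_cancel h1
  -- same permutation: differ by a fixed diagonal matrix
  have key : ∀ n' : ↥T.G, IsMono (((n' : ↥T.G) : GL (Fin N) F) : Matrix (Fin N) (Fin N) F) (w * π) →
      s * b * n ∈ doubleCoset n' (T.BF : Set ↥T.G) T.BF := by
    intro n' hn'
    have hd : IsMono (((n' : GL (Fin N) F)⁻¹ * ν : GL (Fin N) F) : Matrix (Fin N) (Fin N) F) 1 := by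
      have h1 := hn'.inv.mul hν
      rw [inv_mul_cancel] at h1
      rw [Units.val_mul]
      exact h1
    have hdfix : T.σ ((n' : GL (Fin N) F)⁻¹ * ν) = (n' : GL (Fin N) F)⁻¹ * ν := by
      rw [map_mul, map_inv, e2]
      congr 2
      exact n'.2
    rw [mem_doubleCoset]
    refine ⟨⟨u, e1⟩, T.mem_BF.2 hu.upper, ⟨(n' : GL (Fin N) F)⁻¹ * ν, hdfix⟩ * ⟨w', e3⟩,
      mul_mem (T.mem_BF.2 (mem_upper_of_isMono_one hd)) (T.mem_BF.2 hw'.upper), ?_⟩
    apply Subtype.ext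
    simp only [Subgroup.coe_mul]
    rw [e0]
    group
  rcases hAw w hw hwc with h1 | h1
  · right
    apply key
    rw [h1, one_mul]
    exact hπ
  · left
    apply key
    rw [h1, Subgroup.coe_mul, Units.val_mul, e]
    exact (isMono_permGL _).mul hπ

theorem eq_one_of_lowUni_of_upper {g : GL (Fin N) F}
    (hl : IsLowUni (g : Matrix (Fin N) (Fin N) F)) (hu : g ∈ upperTriangularGL N F) : g = 1 := by
  apply Units.ext
  ext i j
  rw [Units.val_one, Matrix.one_apply]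
  by_cases hij : i = j
  · subst hij
    rw [if_pos rfl, hl.1]
  · rw [if_neg hij]
    rcases lt_or_gt_of_ne hij with h | h
    · exact hl.2 i j h
    · exact (mem_upper.1 hu) i j h

theorem TwData.conj_ne_F (s : ↥T.G) (hs : s ∈ T.SF) :
    (fun b : ↥T.G => s * b * s) '' (T.BF : Set ↥T.G) ≠ (T.BF : Set ↥T.G) := by
  intro heq
  have hss := T.sq_eq_one hs
  obtain ⟨j, hj, e⟩ := hs
  obtain ⟨b, hbfix, hbpat, hb1⟩ := T.root j hj
  have hbB : (⟨b, hbfix⟩ : ↥T.G) ∈ T.BF := T.mem_BF.2 hbpat.upper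
  have hmem : s * ⟨b, hbfix⟩ * s ∈ (T.BF : Set ↥T.G) := by
    rw [← heq]; exact ⟨_, hbB, rfl⟩
  have hsinv : s⁻¹ = s := inv_eq_of_mul_eq_one_left hss
  have hval : ((s * ⟨b, hbfix⟩ * s : ↥T.G) : GL (Fin N) F)
      = permGL (T.ρ j) * b * (permGL (T.ρ j))⁻¹ := by
    rw [← e, ← Subgroup.coe_inv, hsinv]
    rfl
  have hup := T.mem_BF.1 hmem
  rw [hval] at hup
  have hlow := conj_isLowUni_of_rM (isMono_permGL (F := F) (T.ρ j)) hbpat
  have h1 := eq_one_of_lowUni_of_upper hlow hup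
  apply hb1
  calc b = (permGL (T.ρ j))⁻¹ * (permGL (T.ρ j) * b * (permGL (T.ρ j))⁻¹) * permGL (T.ρ j) := by
        group
    _ = 1 := by rw [h1]; group

/-- **The (B,N)-pair of the fixed points.** -/
def TwData.bn [Finite F] : Cfsg.BNPair ↥T.G where
  B := T.BF
  N := T.NF
  S := T.SF
  sup_eq_top := T.sup_eq_top_F
  conj_mem := by
    intro n hn t ht
    rw [T.mem_BF, Subgroup.coe_mul, Subgroup.coe_mul, Subgroup.coe_inv]
    exact (glBN N F).conj_mem _ (T.mem_NF.1 hn) _ ⟨T.mem_BF.1 ht.1, T.mem_NF.1 ht.2⟩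
  subset := by
    rintro s ⟨j, hj, e⟩
    exact T.mem_NF.2 (e ▸ permGL_mem _)
  sq_mem := T.sq_mem_F
  inj := T.inj_F
  closure_sup := T.closure_sup_F
  mul_mem_union := T.mul_mem_union_F
  conj_ne := T.conj_ne_F

end Cfsg.Agent.Lib.Helper8.Tw
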