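import Mathlib
import Cfsg.Agent.Lib.Helper8.Tw.FixBN
import Cfsg.Agent.Lib.Helper8.Tw.BNSt
import Cfsg.Agent.H9.SpB

/-!
# The Steinberg character of the fixed points of a twist of `GL_N(F)` (helper8)
-/

set_option autoImplicit false

namespace Cfsg.Agent.Lib.Helper8.Tw

open Matrix Cfsg Cfsg.Agent.Lib.Helper5.GLBN Cfsg.Agent.Lib.Helper5.BN DoubleCoset
open Cfsg.Agent.Lib.Helper8.SpBN
open scoped MatrixGroups

variable {N : ℕ} {F : Type*} [Field F]

/-! ### the unitriangular group -/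

/-- the unitriangular group -/
def UT (N : ℕ) (F : Type*) [Field F] : Subgroup (GL (Fin N) F) where
  carrier := {g | g ∈ upperTriangularGL N F ∧ ∀ i, (g : Matrix (Fin N) (Fin N) F) i i = 1}
  mul_mem' := by
    rintro a b ⟨ha, ha'⟩ ⟨hb, hb'⟩
    refine ⟨mul_mem ha hb, fun i => ?_⟩
    rw [upper_mul_diag ha hb, ha', hb', mul_one]
  one_mem' := ⟨one_mem _, fun i => by simp⟩
  inv_mem' := by
    rintro a ⟨ha, ha'⟩
    refine ⟨inv_mem ha, fun i => ?_⟩
    have := upper_inv_diag ha i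
    rw [ha', mul_one] at this
    exact this

theorem mem_UT {g : GL (Fin N) F} : g ∈ UT N F ↔
    g ∈ upperTriangularGL N F ∧ ∀ i, (g : Matrix (Fin N) (Fin N) F) i i = 1 := Iff.rfl

theorem mem_UT_iff_isUni {g : GL (Fin N) F} :
    g ∈ UT N F ↔ IsUni (g : Matrix (Fin N) (Fin N) F) := by
  rw [mem_UT, isUni_iff, mem_upper]
  exact ⟨fun h => ⟨h.2, h.1⟩, fun h => ⟨h.2, h.1⟩⟩

theorem card_UT [Finite F] :
    Nat.card ↥(UT N F) = Nat.card F ^ Nat.card (PIdx N (fun _ _ => True)) := by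
  rw [← card_patSet]
  exact Nat.card_congr (Equiv.subtypeEquivRight (fun g => mem_UT_iff_isUni))

theorem isPGroup_UT [Finite F] (p : ℕ) [Fact p.Prime] [CharP F p] :
    IsPGroup p ↥(UT N F) := by
  let _ : Fintype F := Fintype.ofFinite F
  obtain ⟨n, -, hn⟩ := FiniteField.card F p
  apply IsPGroup.of_card (n := (n : ℕ) * Nat.card (PIdx N (fun _ _ => True)))
  rw [card_UT, Nat.card_eq_fintype_card, hn, pow_mul]

theorem UT_normal : ∀ b ∈ upperTriangularGL N F, ∀ u ∈ UT N F, b * u * b⁻¹ ∈ UT N F := by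
  rintro b hb u ⟨hu1, hu2⟩
  refine ⟨mul_mem (mul_mem hb hu1) (inv_mem hb), fun i => ?_⟩
  rw [upper_mul_diag (mul_mem hb hu1) (inv_mem hb), upper_mul_diag hb hu1, hu2, mul_one]
  have := upper_inv_diag hb i
  rw [mul_comm] at this
  exact this

theorem mem_UT_of_pow [Finite F] (p : ℕ) [hp : Fact p.Prime] [CharP F p] {b : GL (Fin N) F}
    (hb : b ∈ upperTriangularGL N F) (k : ℕ) (h : b ^ p ^ k = 1) : b ∈ UT N F := by
  refine ⟨hb, fun i => ?_⟩
  have h3 := upper_pow_diag hb (p ^ k) i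
  rw [h] at h3
  have h4 : ((b : Matrix (Fin N) (Fin N) F) i i) ^ p ^ k = 1 := by
    rw [← h3]; simp
  have h5 : (((b : Matrix (Fin N) (Fin N) F) i i) - 1) ^ p ^ k = 0 := by
    rw [sub_pow_char_pow, h4, one_pow, sub_self]
  exact sub_eq_zero.1 (pow_eq_zero_iff (pow_pos hp.out.pos k).ne' |>.1 h5)

theorem mem_UT_mul_dgOf_inv {b : GL (Fin N) F} (hb : b ∈ upperTriangularGL N F) :
    b * (dgOf b hb)⁻¹ ∈ UT N F := mem_UT_iff_isUni.2 (isUni_mul_dgOf_inv hb)

theorem eq_one_of_mem_UT_of_isMono {g : GL (Fin N) F} (hg : g ∈ UT N F)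
    (hd : IsMono (g : Matrix (Fin N) (Fin N) F) 1) : g = 1 := by
  apply Units.ext
  ext i j
  rw [Units.val_one, Matrix.one_apply]
  by_cases hij : i = j
  · subst hij
    rw [if_pos rfl, hg.2]
  · rw [if_neg hij]
    apply hd
    simpa using hij

/-! ### the data for the Steinberg character -/

variable (T : TwData N F)

/-- the simple reflections, indexed by the natural numbers -/
def TwData.sF (j : ℕ) : ↥T.G := if h : j < T.l then ⟨permGL (T.ρ j), T.ρ_fix j h⟩ else 1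

theorem TwData.sF_coe {j : ℕ} (h : j < T.l) : ((T.sF j : ↥T.G) : GL (Fin N) F) = permGL (T.ρ j) := by
  unfold TwData.sF
  rw [dif_pos h]

/-- the longest element -/
def TwData.n0F : ↥T.G := ⟨RG N F, T.rev_fix⟩

theorem TwData.low_F [Finite F] (x : ↥T.G) (hx : x ∈ T.SF) :
    ∃ t ∈ D T.bn x, T.n0F * t * T.n0F⁻¹ ∈ T.BF := by
  have hxN : x ∈ T.NF := T.bn.subset hx
  obtain ⟨j, hj, e⟩ := hx
  obtain ⟨b, hbfix, hbpat, hb1⟩ := T.root j hj
  have hbB : (⟨b, hbfix⟩ : ↥T.G) ∈ T.BF := T.mem_BF.2 hbpat.upper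
  refine ⟨x * ⟨b, hbfix⟩ * x⁻¹, ?_, ?_⟩
  · have h1 := T.bn.mul_mem_union x ⟨j, hj, e⟩ x⁻¹ (inv_mem hxN) ⟨b, hbfix⟩ hbB
    rcases h1 with h1 | h1
    · exfalso
      rw [mul_inv_cancel] at h1
      have h2 : x * ⟨b, hbfix⟩ * x⁻¹ ∈ D T.bn 1 := h1
      rw [D_one] at h2
      have hup : permGL (T.ρ j) * b * (permGL (T.ρ j))⁻¹ ∈ upperTriangularGL N F := by
        have := T.mem_BF.1 h2
        rw [Subgroup.coe_mul, Subgroup.coe_mul, Subgroup.coe_inv, e] at this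
        exact this
      have hlow := conj_isLowUni_of_rM (isMono_permGL (F := F) (T.ρ j)) hbpat
      have h3 := eq_one_of_lowUni_of_upper hlow hup
      apply hb1
      calc b = (permGL (T.ρ j))⁻¹ * (permGL (T.ρ j) * b * (permGL (T.ρ j))⁻¹)
            * permGL (T.ρ j) := by group
        _ = 1 := by rw [h3]; group
    · have h2 : x * ⟨b, hbfix⟩ * x⁻¹ ∈ D T.bn x⁻¹ := h1
      rw [D_inv_S T.bn (⟨j, hj, e⟩ : x ∈ T.bn.S)] at h2
      exact h2
  · rw [T.mem_BF]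
    have e1 : ((T.n0F * (x * ⟨b, hbfix⟩ * x⁻¹) * T.n0F⁻¹ : ↥T.G) : GL (Fin N) F)
        = (RG N F * permGL (T.ρ j)) * b * (RG N F * permGL (T.ρ j))⁻¹ := by
      simp only [Subgroup.coe_mul, Subgroup.coe_inv, e]
      show RG N F * (permGL (T.ρ j) * b * (permGL (T.ρ j))⁻¹) * (RG N F)⁻¹ = _
      group
    rw [e1]
    have hmono : IsMono ((RG N F * permGL (T.ρ j) : GL (Fin N) F) : Matrix (Fin N) (Fin N) F)
        (Fin.revPerm * T.ρ j) := by
      rw [Units.val_mul]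
      exact isMono_RG.mul (isMono_permGL _)
    have hpat : IsPat (rP (Fin.revPerm * T.ρ j)) (b : Matrix (Fin N) (Fin N) F) := by
      apply IsPat.mono' _ hbpat
      intro i k _ hr
      unfold rP
      unfold rM at hr
      rw [Equiv.Perm.mul_apply, Equiv.Perm.mul_apply, Fin.revPerm_apply, Fin.revPerm_apply]
      exact Fin.rev_lt_rev.2 hr
    exact (conj_isUni_of_rP hmono hpat).upper

/-- the data for the Steinberg character of the fixed points -/
def TwData.st [Finite F] : StData T.bn where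
  l := T.l
  s := T.sF
  s_mem := fun j hj => ⟨j, hj, T.sF_coe hj⟩
  s_surj := by
    rintro x ⟨j, hj, e⟩
    exact ⟨j, hj, Subtype.ext ((T.sF_coe hj).trans e.symm)⟩
  n0 := T.n0F
  n0_mem := T.mem_NF.2 (permGL_mem _)
  low := T.low_F

/-! ### the torus -/

theorem RG_conj_apply (g : GL (Fin N) F) (i j : Fin N) :
    (((RG N F)⁻¹ * g * RG N F : GL (Fin N) F) : Matrix (Fin N) (Fin N) F) i j
      = (g : Matrix (Fin N) (Fin N) F) i.rev j.rev := by
  rw [RG_inv]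
  unfold RG
  rw [perm_conj_apply, revPerm_inv', Fin.revPerm_apply, Fin.revPerm_apply]

theorem TwData.mem_diagK_iff [Finite F] {g : ↥T.G} :
    g ∈ T.st.diagK ↔ IsMono ((g : GL (Fin N) F) : Matrix (Fin N) (Fin N) F) 1 := by
  rw [StData.mem_diagK]
  have hB : ∀ x : ↥T.G, x ∈ T.bn.B ↔ (x : GL (Fin N) F) ∈ upperTriangularGL N F :=
    fun x => T.mem_BF
  have hn0 : ((T.st.n0⁻¹ * g * T.st.n0 : ↥T.G) : GL (Fin N) F)
      = (RG N F)⁻¹ * (g : GL (Fin N) F) * RG N F := rfl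
  rw [hB, hB, hn0]
  constructor
  · rintro ⟨h1, h2⟩ i j hij
    have hij' : i ≠ j := by simpa using hij
    rcases lt_or_gt_of_ne hij' with h | h
    · have := (mem_upper.1 h2) i.rev j.rev (Fin.rev_lt_rev.2 h)
      rw [RG_conj_apply, Fin.rev_rev, Fin.rev_rev] at this
      exact this
    · exact (mem_upper.1 h1) i j h
  · intro h
    refine ⟨mem_upper_of_isMono_one h, ?_⟩
    rw [mem_upper]
    intro i j hij
    rw [RG_conj_apply]
    apply h
    intro e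
    rw [Equiv.Perm.one_apply] at e
    exact (ne_of_gt hij) (Fin.rev_injective e)

/-! ### the unitriangular fixed points -/

/-- the unitriangular fixed points -/
def TwData.UF : Subgroup ↥T.G := (UT N F).subgroupOf T.G

theorem TwData.mem_UF {g : ↥T.G} : g ∈ T.UF ↔ (g : GL (Fin N) F) ∈ UT N F :=
  Subgroup.mem_subgroupOf

theorem TwData.UF_le_BF : T.UF ≤ T.BF := fun _ hg => T.mem_BF.2 (T.mem_UF.1 hg).1

theorem TwData.isPGroup_UF [Finite F] (p : ℕ) [Fact p.Prime] [CharP F p] : IsPGroup p ↥T.UF :=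
  (isPGroup_UT p).comap_of_injective _ (Subgroup.subtype_injective _)

theorem TwData.UF_normal : ∀ b ∈ T.BF, ∀ u ∈ T.UF, b * u * b⁻¹ ∈ T.UF := by
  intro b hb u hu
  rw [T.mem_UF, Subgroup.coe_mul, Subgroup.coe_mul, Subgroup.coe_inv]
  exact UT_normal _ (T.mem_BF.1 hb) _ (T.mem_UF.1 hu)

/-- the diagonal part of a fixed upper triangular matrix is fixed -/
theorem TwData.dgOf_fixed [Finite F] {b : GL (Fin N) F} (hb : b ∈ upperTriangularGL N F)
    (hfix : T.σ b = b) : T.σ (dgOf b hb) = dgOf b hb := by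
  have hu : IsUni ((b * (dgOf b hb)⁻¹ : GL (Fin N) F) : Matrix (Fin N) (Fin N) F) :=
    isUni_mul_dgOf_inv hb
  have hd := isMono_dgOf b hb
  have hσu := T.uni _ hu
  have hσd := T.mono _ _ hd
  rw [revC_one] at hσd
  have h1 : IsPat (rM (1 : Equiv.Perm (Fin N)))
      (((1 : GL (Fin N) F) : GL (Fin N) F) : Matrix (Fin N) (Fin N) F) := by
    rw [Units.val_one]; exact isPat_one _
  have e : T.σ (b * (dgOf b hb)⁻¹) * T.σ (dgOf b hb) * 1 = b * (dgOf b hb)⁻¹ * dgOf b hb * 1 := by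
    rw [mul_one, mul_one, ← map_mul, inv_mul_cancel_right, hfix]
  exact (sharp_unique hσu hu hσd hd h1 h1 e).2.1

theorem TwData.exists_torus_decomp [Finite F] {b : ↥T.G} (hb : b ∈ T.BF) :
    ∃ t ∈ T.st.diagK, b * t⁻¹ ∈ T.UF := by
  have hbu := T.mem_BF.1 hb
  refine ⟨⟨dgOf _ hbu, T.dgOf_fixed hbu b.2⟩, ?_, ?_⟩
  · rw [T.mem_diagK_iff]
    exact isMono_dgOf _ hbu
  · rw [T.mem_UF, Subgroup.coe_mul, Subgroup.coe_inv]
    exact mem_UT_mul_dgOf_inv hbu

theorem TwData.diagK_le_NF [Finite F] : T.st.diagK ≤ T.NF := by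
  intro g hg
  exact T.mem_NF.2 ⟨1, T.mem_diagK_iff.1 hg⟩

/-- the normalizer of the unitriangular fixed points is contained in `B` -/
theorem TwData.normalizer_UF_le [Finite F] {g : ↥T.G}
    (hg : g ∈ Subgroup.normalizer (T.UF : Set ↥T.G)) : g ∈ T.BF := by
  obtain ⟨n, hn⟩ := exists_N_mem_D T.bn g
  rw [mem_D] at hn
  obtain ⟨b1, hb1, b2, hb2, rfl⟩ := hn
  have hb1' : b1 ∈ T.BF := hb1
  have hb2' : b2 ∈ T.BF := hb2
  -- `n` normalizes the unitriangular group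
  have hnU : ∀ u ∈ T.UF, (n : ↥T.G) * u * (n : ↥T.G)⁻¹ ∈ T.UF := by
    intro u hu
    have h1 : b2⁻¹ * u * b2 ∈ T.UF := by
      have := T.UF_normal b2⁻¹ (inv_mem hb2') u hu
      rwa [inv_inv] at this
    have h2 := (Subgroup.mem_normalizer_iff.1 hg (b2⁻¹ * u * b2)).1 h1
    have h3 := T.UF_normal b1⁻¹ (inv_mem hb1') _ h2
    have e : b1⁻¹ * (b1 * (n : ↥T.G) * b2 * (b2⁻¹ * u * b2) * (b1 * (n : ↥T.G) * b2)⁻¹) * b1⁻¹⁻¹
        = (n : ↥T.G) * u * (n : ↥T.G)⁻¹ := by group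
    rw [e] at h3
    exact h3
  have hnB : (n : ↥T.G) ∈ T.bn.B := by
    apply mem_of_conj_B_subset T.bn T.bn.B le_rfl
    intro β hβ
    obtain ⟨t, ht, hβt⟩ := T.exists_torus_decomp (b := β) hβ
    have e : (n : ↥T.G) * β * (n : ↥T.G)⁻¹
        = ((n : ↥T.G) * (β * t⁻¹) * (n : ↥T.G)⁻¹) * ((n : ↥T.G) * t * (n : ↥T.G)⁻¹) := by group
    rw [e]
    exact mul_mem (T.UF_le_BF (hnU _ hβt))
      (T.bn.conj_mem n n.2 t ⟨T.st.diagK_le ht, T.diagK_le_NF ht⟩)
  exact mul_mem (mul_mem hb1 hnB) hb2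

/-- the unitriangular fixed points form a Sylow subgroup -/
theorem TwData.card_UF [Finite F] (p : ℕ) [Fact p.Prime] [CharP F p] :
    Nat.card ↥T.UF = p ^ (Nat.card ↥T.G).factorization p := by
  apply Cfsg.Agent.H9.SpB.card_eq_of_normalizer p T.UF (T.isPGroup_UF p)
  intro x hx k hk
  have hxB := T.normalizer_UF_le hx
  rw [T.mem_UF]
  apply mem_UT_of_pow p (T.mem_BF.1 hxB) k
  rw [← Subgroup.coe_pow, hk, Subgroup.coe_one]

/-! ### the degree -/

/-- the map from the unitriangular fixed points to the cosets of the torus -/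
def TwData.ufToBmodK [Finite F] (u : ↥T.UF) : T.st.BmodK :=
  QuotientGroup.mk (⟨(u : ↥T.G), T.UF_le_BF u.2⟩ : ↥T.bn.B)

theorem TwData.ufToBmodK_bijective [Finite F] : Function.Bijective T.ufToBmodK := by
  constructor
  · intro u u' h
    unfold TwData.ufToBmodK at h
    rw [QuotientGroup.eq, Subgroup.mem_subgroupOf] at h
    have h1 : (((⟨(u : ↥T.G), T.UF_le_BF u.2⟩ : ↥T.bn.B)⁻¹ *
        (⟨(u' : ↥T.G), T.UF_le_BF u'.2⟩ : ↥T.bn.B) : ↥T.bn.B) : ↥T.G)
        = ((u⁻¹ * u' : ↥T.UF) : ↥T.G) := rfl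
    rw [h1] at h
    have h2 := eq_one_of_mem_UT_of_isMono (T.mem_UF.1 (u⁻¹ * u').2) (T.mem_diagK_iff.1 h)
    have h3 : u⁻¹ * u' = 1 := Subtype.ext (Subtype.ext h2)
    exact inv_mul_eq_one.1 h3
  · intro x
    induction x using QuotientGroup.induction_on with
    | H b =>
      obtain ⟨t, ht, hbt⟩ := T.exists_torus_decomp (b := (b : ↥T.G)) b.2
      refine ⟨⟨(b : ↥T.G) * t⁻¹, hbt⟩, ?_⟩
      unfold TwData.ufToBmodK
      rw [QuotientGroup.eq, Subgroup.mem_subgroupOf]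
      have h1 : (((⟨(b : ↥T.G) * t⁻¹, T.UF_le_BF hbt⟩ : ↥T.bn.B)⁻¹ * b : ↥T.bn.B) : ↥T.G)
          = t := by
        rw [Subgroup.coe_mul, Subgroup.coe_inv]
        show ((b : ↥T.G) * t⁻¹)⁻¹ * (b : ↥T.G) = t
        group
      rw [h1]
      exact ht

/-- **The index of the torus in the Borel subgroup is the order of a Sylow `p`-subgroup.** -/
theorem TwData.card_BmodK [Finite F] (p : ℕ) [Fact p.Prime] [CharP F p] :
    Nat.card T.st.BmodK = p ^ (Nat.card ↥T.G).factorization p := by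
  rw [← Nat.card_congr (Equiv.ofBijective _ T.ufToBmodK_bijective), T.card_UF p]

end Cfsg.Agent.Lib.Helper8.Tw
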