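import Mathlib
import Cfsg.Agent.Lib.Helper8.Tw.FixSt

/-!
# The twist of `GL_N(F)` whose fixed points form the unitary group (helper8)
-/

set_option autoImplicit false

namespace Cfsg.Agent.Lib.Helper8.Tw

open Matrix Cfsg Cfsg.Agent.Lib.Helper5.GLBN Cfsg.Agent.Lib.Helper5.BN DoubleCoset
open Cfsg.Agent.Lib.Helper8.SpBN
open scoped MatrixGroups

variable {N : ℕ} {F : Type*} [Field F]

theorem usig_mem_upper (φ : F →+* F) {g : GL (Fin N) F} (hg : g ∈ upperTriangularGL N F) :
    usig φ g ∈ upperTriangularGL N F := by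
  rw [mem_upper]
  intro a b hba
  rw [usig_apply, (mem_upper.1 (inv_mem hg)) b.rev a.rev (Fin.rev_lt_rev.2 hba), map_zero]

theorem usig_isMono (φ : F →+* F) {g : GL (Fin N) F} {π : Equiv.Perm (Fin N)}
    (hg : IsMono (g : Matrix (Fin N) (Fin N) F) π) :
    IsMono ((usig φ g : GL (Fin N) F) : Matrix (Fin N) (Fin N) F) (revC π) := by
  intro a b hab
  rw [usig_apply, hg.inv b.rev a.rev, map_zero]
  intro h
  apply hab
  rw [revC_apply, h]
  simp

theorem usig_isUni (φ : F →+* F) {g : GL (Fin N) F}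
    (hg : IsUni (g : Matrix (Fin N) (Fin N) F)) :
    IsUni ((usig φ g : GL (Fin N) F) : Matrix (Fin N) (Fin N) F) := by
  rw [isUni_iff]
  constructor
  · intro i
    rw [usig_apply]
    have h := upper_inv_diag hg.upper i.rev
    rw [(isUni_iff.1 hg).1, mul_one] at h
    rw [h, map_one]
  · intro i j hji
    exact (mem_upper.1 (usig_mem_upper φ hg.upper)) i j hji

theorem usig_isPat [Finite F] (φ : F →+* F) {g : GL (Fin N) F} {π : Equiv.Perm (Fin N)}
    (hg : IsPat (rM π) (g : Matrix (Fin N) (Fin N) F)) :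
    IsPat (rM (revC π)) ((usig φ g : GL (Fin N) F) : Matrix (Fin N) (Fin N) F) := by
  have hinv := IsPat.inv (rM_trans π) hg
  have hu := isUni_iff.1 (usig_isUni φ hg.isUni)
  refine ⟨hu.1, hu.2, ?_⟩
  intro a b hab hn
  rw [usig_apply, hinv.2.2 b.rev a.rev (Fin.rev_lt_rev.2 hab), map_zero]
  intro hr
  apply hn
  unfold rM at hr ⊢
  rw [revC_apply, revC_apply]
  exact Fin.rev_lt_rev.2 hr

/-- the twist whose fixed points form the unitary group -/
def uTwist [Finite F] (φ : F →+* F) (hφ : ∀ x, φ (φ x) = x) : Twist N F where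
  σ := usig φ
  invol := usig_usig φ hφ
  upper := fun _ hg => usig_mem_upper φ hg
  uni := fun _ hg => usig_isUni φ hg
  mono := fun _ _ hg => usig_isMono φ hg
  pat := fun _ _ hg => usig_isPat φ hg

theorem usig_permGL (φ : F →+* F) (π : Equiv.Perm (Fin N)) :
    usig φ (permGL π) = permGL (revC π) := by
  apply Units.ext
  ext a b
  rw [usig_apply, ← map_inv, permGL_coe, permGL_coe, pm_apply, pm_apply, revC_apply]
  by_cases h : b.rev = π⁻¹ a.rev
  · rw [if_pos h, map_one, if_pos]
    rw [h]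
    simp
  · rw [if_neg h, map_zero, if_neg]
    intro h'
    apply h
    rw [h']
    simp

theorem usig_tv (φ : F →+* F) (a b : Fin N) (hab : a ≠ b) (c : F) :
    usig φ (tv a b hab c) =
      tv b.rev a.rev (fun h => hab (Fin.rev_injective h).symm) (-(φ c)) := by
  apply Units.ext
  ext x y
  have hinv : (tv a b hab c)⁻¹ = tv a b hab (-c) := by
    rw [inv_eq_iff_mul_eq_one, tv_mul_tv, add_neg_cancel, tv_zero]
  rw [usig_apply, hinv, tv_coe, tv_coe, transvection_apply, transvection_apply]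
  have h1 : (y.rev = x.rev) ↔ (x = y) := by
    constructor
    · intro h; exact (Fin.rev_injective h).symm
    · intro h; rw [h]
  have h2 : (a = y.rev ∧ b = x.rev) ↔ (b.rev = x ∧ a.rev = y) := by
    constructor
    · rintro ⟨h, h'⟩; rw [h, h']; simp
    · rintro ⟨h, h'⟩; rw [← h, ← h']; simp
  simp only [h1, h2]
  by_cases h3 : b.rev = x ∧ a.rev = y
  · rw [if_pos h3, if_pos h3]
    by_cases hxy : x = y <;> simp [hxy]
  · rw [if_neg h3, if_neg h3]
    by_cases hxy : x = y <;> simp [hxy]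

end Cfsg.Agent.Lib.Helper8.Tw
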