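import Mathlib
import Cfsg.Agent.Lib.Helper8.Tw.UTwist

/-!
# The permutations commuting with the reversal (helper8)

The group of the permutations of `Fin N` which commute with the reversal is generated by the
short reflections `(k k+1)(rev k, rev (k+1))`, `k + 1 < N / 2`, and the middle reflection
`(k rev k)`, `k + 1 = N / 2`.
-/

set_option autoImplicit false

namespace Cfsg.Agent.Lib.Helper8.Tw

open Cfsg.Agent.Lib.Helper8.SpBN

variable {N : ℕ}

/-- a short reflection -/
def rhoS (k k' : Fin N) : Equiv.Perm (Fin N) := Equiv.swap k k' * Equiv.swap k.rev k'.rev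

/-- the middle reflection -/
def rhoM (k : Fin N) : Equiv.Perm (Fin N) := Equiv.swap k k.rev

/-- the simple reflections, indexed by the natural numbers -/
def rho (N : ℕ) (j : ℕ) : Equiv.Perm (Fin N) :=
  if h : j + 1 < N / 2 then rhoS ⟨j, by omega⟩ ⟨j + 1, by omega⟩
  else if h' : j + 1 = N / 2 then rhoM ⟨j, by omega⟩ else 1

theorem revC_swap (a b : Fin N) : revC (Equiv.swap a b) = Equiv.swap a.rev b.rev := by
  unfold revC
  rw [Equiv.mul_swap_eq_swap_mul, Fin.revPerm_apply, Fin.revPerm_apply, mul_assoc,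
    revPerm_mul_self, mul_one]

theorem revC_revPerm : revC (Fin.revPerm : Equiv.Perm (Fin N)) = Fin.revPerm := by
  unfold revC
  rw [revPerm_mul_self, one_mul]

theorem swap_comm_of_half {k k' : Fin N} (hk : (k : ℕ) < N / 2) (hk' : (k' : ℕ) < N / 2)
    (hne : k ≠ k') :
    Equiv.swap k k' * Equiv.swap k.rev k'.rev = Equiv.swap k.rev k'.rev * Equiv.swap k k' := by
  have hv : ∀ x : Fin N, ((x.rev : Fin N) : ℕ) = N - (x + 1) := fun x => Fin.val_rev x
  have hd : Equiv.Perm.Disjoint (Equiv.swap k k') (Equiv.swap k.rev k'.rev) := by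
    apply Equiv.Perm.disjoint_swap_swap
    have h1 : k ≠ k.rev := fun e => by have := congrArg Fin.val e; rw [hv] at this; omega
    have h2 : k ≠ k'.rev := fun e => by have := congrArg Fin.val e; rw [hv] at this; omega
    have h3 : k' ≠ k.rev := fun e => by have := congrArg Fin.val e; rw [hv] at this; omega
    have h4 : k' ≠ k'.rev := fun e => by have := congrArg Fin.val e; rw [hv] at this; omega
    have h5 : k.rev ≠ k'.rev := fun e => hne (Fin.rev_injective e)
    simp [hne, h1, h2, h3, h4, h5]
  exact hd.commute.eq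

theorem revC_rhoS {k k' : Fin N} (hk : (k : ℕ) < N / 2) (hk' : (k' : ℕ) < N / 2)
    (hne : k ≠ k') : revC (rhoS k k') = rhoS k k' := by
  unfold rhoS
  rw [revC_mul, revC_swap, revC_swap, Fin.rev_rev, Fin.rev_rev, swap_comm_of_half hk hk' hne]

theorem revC_rhoM (k : Fin N) : revC (rhoM k) = rhoM k := by
  unfold rhoM
  rw [revC_swap, Fin.rev_rev, Equiv.swap_comm]

theorem rhoS_sq {k k' : Fin N} (hk : (k : ℕ) < N / 2) (hk' : (k' : ℕ) < N / 2)
    (hne : k ≠ k') : rhoS k k' * rhoS k k' = 1 := by
  unfold rhoS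
  have h := swap_comm_of_half hk hk' hne
  calc Equiv.swap k k' * Equiv.swap k.rev k'.rev * (Equiv.swap k k' * Equiv.swap k.rev k'.rev)
      = Equiv.swap k k' * (Equiv.swap k.rev k'.rev * Equiv.swap k k') * Equiv.swap k.rev k'.rev := by
        group
    _ = Equiv.swap k k' * (Equiv.swap k k' * Equiv.swap k.rev k'.rev) * Equiv.swap k.rev k'.rev := by
        rw [h]
    _ = (Equiv.swap k k' * Equiv.swap k k') * (Equiv.swap k.rev k'.rev * Equiv.swap k.rev k'.rev) := by
        group
    _ = 1 := by rw [Equiv.swap_mul_self, Equiv.swap_mul_self, one_mul]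

theorem rhoM_sq (k : Fin N) : rhoM k * rhoM k = 1 := Equiv.swap_mul_self _ _

theorem rho_sq (j : ℕ) (hj : j < N / 2) : rho N j * rho N j = 1 := by
  unfold rho
  by_cases h : j + 1 < N / 2
  · rw [dif_pos h]
    exact rhoS_sq (by simp only; omega) (by simp only; omega) (by
      intro e; have := congrArg Fin.val e; simp only at this; omega)
  · rw [dif_neg h, dif_pos (by omega)]
    exact rhoM_sq _

theorem revC_rho (j : ℕ) (hj : j < N / 2) : revC (rho N j) = rho N j := by
  unfold rho
  by_cases h : j + 1 < N / 2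
  · rw [dif_pos h]
    exact revC_rhoS (by simp only; omega) (by simp only; omega) (by
      intro e; have := congrArg Fin.val e; simp only at this; omega)
  · rw [dif_neg h, dif_pos (by omega)]
    exact revC_rhoM _

/-! ### generation -/

theorem rhoS_mem {k k' : Fin N} (hk : (k : ℕ) + 1 = k') (hk' : (k' : ℕ) < N / 2) :
    rhoS k k' ∈ Subgroup.closure (rho N '' Set.Iio (N / 2)) := by
  apply Subgroup.subset_closure
  refine ⟨(k : ℕ), by simp only [Set.mem_Iio]; omega, ?_⟩
  unfold rho
  rw [dif_pos (by omega)]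
  congr 1
  exact Fin.ext hk

theorem rhoM_mem {k : Fin N} (hk : (k : ℕ) + 1 = N / 2) :
    rhoM k ∈ Subgroup.closure (rho N '' Set.Iio (N / 2)) := by
  apply Subgroup.subset_closure
  refine ⟨(k : ℕ), by simp only [Set.mem_Iio]; omega, ?_⟩
  unfold rho
  rw [dif_neg (by omega), dif_pos hk]

/-- every permutation commuting with the reversal is a product of simple reflections -/
theorem mem_closure_rho (π : Equiv.Perm (Fin N)) (hrev : ∀ b, π b.rev = (π b).rev) :
    π ∈ Subgroup.closure (rho N '' Set.Iio (N / 2)) := by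
  have hv : ∀ x : Fin N, ((x.rev : Fin N) : ℕ) = N - (x + 1) := fun x => Fin.val_rev x
  induction π using MzRel_wf.induction with
  | _ π ih =>
  by_cases hπ1 : π = 1
  · rw [hπ1]; exact one_mem _
  obtain ⟨k₀, k₀', hk₀, hdesc₀⟩ := exists_adj_descent π hπ1
  -- the short case
  have short : ∀ k k' : Fin N, (k : ℕ) + 1 = k' → (k' : ℕ) < N / 2 → π k' < π k →
      π ∈ Subgroup.closure (rho N '' Set.Iio (N / 2)) := by
    intro k k' hk hk' hdesc
    have hkm : (k : ℕ) < N / 2 := by omega
    have hlt : k < k' := by rw [Fin.lt_def]; omega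
    have hne : k ≠ k' := ne_of_lt hlt
    have hττ := rhoS_sq hkm hk' hne
    have hτrev := (revC_eq_self_iff _).1 (revC_rhoS hkm hk' hne)
    have hk'ne : k' ≠ k.rev := fun e => by have := congrArg Fin.val e; rw [hv] at this; omega
    have hkne : k ≠ k.rev := fun e => by have := congrArg Fin.val e; rw [hv] at this; omega
    have hkne' : k ≠ k'.rev := fun e => by have := congrArg Fin.val e; rw [hv] at this; omega
    have hk'ne' : k' ≠ k'.rev := fun e => by have := congrArg Fin.val e; rw [hv] at this; omega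
    have h1 : Mz π < Mz (π * Equiv.swap k k') := Mz_lt π hlt hdesc
    have h2 : Mz (π * Equiv.swap k k') < Mz (π * Equiv.swap k k' * Equiv.swap k'.rev k.rev) := by
      apply Mz_lt _ (Fin.rev_lt_rev.2 hlt)
      rw [Equiv.Perm.mul_apply, Equiv.Perm.mul_apply,
        Equiv.swap_apply_of_ne_of_ne hkne.symm hk'ne.symm,
        Equiv.swap_apply_of_ne_of_ne hkne'.symm hk'ne'.symm, hrev, hrev]
      exact Fin.rev_lt_rev.2 hdesc
    have hrel : MzRel (π * rhoS k k') π := by
      unfold MzRel rhoS
      rw [← mul_assoc, Equiv.swap_comm k.rev k'.rev]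
      exact lt_trans h1 h2
    have hrev' : ∀ b : Fin N, (π * rhoS k k') b.rev = ((π * rhoS k k') b).rev := by
      intro b
      rw [Equiv.Perm.mul_apply, Equiv.Perm.mul_apply, hτrev, hrev]
    have h3 := ih (π * rhoS k k') hrel hrev'
    have : π = (π * rhoS k k') * rhoS k k' := by rw [mul_assoc, hττ, mul_one]
    rw [this]
    exact mul_mem h3 (rhoS_mem hk hk')
  -- the long case
  have long : ∀ k : Fin N, (k : ℕ) + 1 = N / 2 → π k.rev < π k →
      π ∈ Subgroup.closure (rho N '' Set.Iio (N / 2)) := by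
    intro k hk hdesc
    have hlt : k < k.rev := by rw [Fin.lt_def, hv]; omega
    have hrel : MzRel (π * rhoM k) π := Mz_lt π hlt hdesc
    have hτrev := (revC_eq_self_iff _).1 (revC_rhoM k)
    have hrev' : ∀ b : Fin N, (π * rhoM k) b.rev = ((π * rhoM k) b).rev := by
      intro b
      rw [Equiv.Perm.mul_apply, Equiv.Perm.mul_apply, hτrev, hrev]
    have h3 := ih _ hrel hrev'
    have : π = (π * rhoM k) * rhoM k := by rw [mul_assoc, rhoM_sq, mul_one]
    rw [this]
    exact mul_mem h3 (rhoM_mem hk)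
  -- a descent at the pair `(N / 2 - 1, N / 2)`
  have mid : ∀ k k' : Fin N, (k : ℕ) + 1 = k' → (k : ℕ) + 1 = N / 2 → π k' < π k →
      π ∈ Subgroup.closure (rho N '' Set.Iio (N / 2)) := by
    intro k k' hk hkm hdesc
    by_cases hk' : k' = k.rev
    · rw [hk'] at hdesc
      exact long k hkm hdesc
    · -- `N` is odd and `k'` is the middle
      have hNodd : N = 2 * (N / 2) + 1 := by
        have h1 : (k' : ℕ) ≠ N - ((k : ℕ) + 1) := by
          intro e; apply hk'; apply Fin.ext; rw [hv]; exact e
        have := k'.2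
        omega
      have hk'rev : k'.rev = k' := by apply Fin.ext; rw [hv]; omega
      have hπk' : ((π k' : Fin N) : ℕ) = N / 2 := by
        have h1 := hrev k'
        rw [hk'rev] at h1
        have h2 := congrArg Fin.val h1
        rw [hv] at h2
        have := (π k').2
        omega
      apply long k hkm
      rw [hrev, Fin.lt_def, hv]
      rw [Fin.lt_def] at hdesc
      have := (π k).2
      omega
  by_cases hc1 : (k₀' : ℕ) < N / 2
  · exact short k₀ k₀' hk₀ hc1 hdesc₀
  · by_cases hc2 : (k₀ : ℕ) + 1 = N / 2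
    · exact mid k₀ k₀' hk₀ hc2 hdesc₀
    · have hkm : N / 2 ≤ (k₀ : ℕ) := by omega
      have hadj : ((k₀'.rev : Fin N) : ℕ) + 1 = (k₀.rev : Fin N) := by
        rw [hv, hv]; have := k₀'.2; omega
      have hdesc' : π k₀.rev < π k₀'.rev := by
        rw [hrev, hrev]; exact Fin.rev_lt_rev.2 hdesc₀
      by_cases hc3 : ((k₀.rev : Fin N) : ℕ) < N / 2
      · exact short k₀'.rev k₀.rev hadj hc3 hdesc'
      · apply mid k₀'.rev k₀.rev hadj _ hdesc'
        rw [hv] at hc3 ⊢
        have := k₀'.2
        omega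

end Cfsg.Agent.Lib.Helper8.Tw
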