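import Mathlib
import Cfsg.Agent.Lib.Helper8.Tw.UWeyl

/-!
# The simple reflections of the unitary group as products of adjacent transpositions (helper8)
-/

set_option autoImplicit false

namespace Cfsg.Agent.Lib.Helper8.Tw

variable {N : ℕ}

/-- the permutations fixing every point outside `E` -/
def fixSub (E : Fin N → Prop) : Subgroup (Equiv.Perm (Fin N)) where
  carrier := {w | ∀ x, ¬ E x → w x = x}
  mul_mem' := fun {a b} ha hb x hx => by rw [Equiv.Perm.mul_apply, hb x hx, ha x hx]
  one_mem' := fun _ _ => rfl
  inv_mem' := fun {a} ha x hx => by rw [Equiv.Perm.inv_eq_iff_eq]; exact (ha x hx).symm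

/-- the permutations preserving a predicate -/
def presSub (f : Fin N → Prop) : Subgroup (Equiv.Perm (Fin N)) where
  carrier := {w | ∀ x, f (w x) ↔ f x}
  mul_mem' := fun {a b} ha hb x => by rw [Equiv.Perm.mul_apply, ha, hb]
  one_mem' := fun _ => Iff.rfl
  inv_mem' := fun {a} ha x => by rw [← ha (a⁻¹ x)]; simp

theorem swap_mem_fixSub {E : Fin N → Prop} {a b : Fin N} (ha : E a) (hb : E b) :
    Equiv.swap a b ∈ fixSub E := by
  intro x hx
  apply Equiv.swap_apply_of_ne_of_ne
  · intro e; rw [e] at hx; exact hx ha
  · intro e; rw [e] at hx; exact hx hb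

theorem swap_mem_presSub {f : Fin N → Prop} {a b : Fin N} (h : f a ↔ f b) :
    Equiv.swap a b ∈ presSub f := by
  intro x
  rw [Equiv.swap_apply_def]
  split_ifs with h1 h2
  · rw [h1]; exact h.symm
  · rw [h2]; exact h
  · exact Iff.rfl

/-- a permutation moving only the points of `E` maps `E` to itself -/
theorem apply_mem_of_mem_fixSub {E : Fin N → Prop} {w : Equiv.Perm (Fin N)} (hw : w ∈ fixSub E)
    {x : Fin N} (hx : E x) : E (w x) := by
  by_contra h
  have h1 := hw (w x) h
  have h2 := w.injective h1
  rw [h2] at h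
  exact h hx

/-! ### the short reflections -/

theorem adj_short {k k' : Fin N} (hk : (k : ℕ) + 1 = k') (hk' : (k' : ℕ) < N / 2) :
    ∃ A : Set (Equiv.Perm (Fin N)),
      (∀ τ ∈ A, ∃ a a' : Fin N, (a : ℕ) + 1 = a' ∧ τ = Equiv.swap a a') ∧
      rhoS k k' ∈ Subgroup.closure A ∧
      ∀ w ∈ Subgroup.closure A, revC w = w → w = 1 ∨ w = rhoS k k' := by
  have hv : ∀ x : Fin N, ((x.rev : Fin N) : ℕ) = N - (x + 1) := fun x => Fin.val_rev x
  have hkm : (k : ℕ) < N / 2 := by omega
  have hne : k ≠ k' := fun e => by have := congrArg Fin.val e; omega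
  have h1 : k ≠ k.rev := fun e => by have := congrArg Fin.val e; rw [hv] at this; omega
  have h2 : k ≠ k'.rev := fun e => by have := congrArg Fin.val e; rw [hv] at this; omega
  have h3 : k' ≠ k.rev := fun e => by have := congrArg Fin.val e; rw [hv] at this; omega
  have h4 : k' ≠ k'.rev := fun e => by have := congrArg Fin.val e; rw [hv] at this; omega
  set E : Fin N → Prop := fun x => x = k ∨ x = k' ∨ x = k.rev ∨ x = k'.rev with hE
  set f : Fin N → Prop := fun x => (x : ℕ) < N / 2 with hf
  set A : Set (Equiv.Perm (Fin N)) := {Equiv.swap k k', Equiv.swap k'.rev k.rev} with hA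
  have hAE : Subgroup.closure A ≤ fixSub E := by
    rw [Subgroup.closure_le]
    rintro τ (rfl | rfl)
    · exact swap_mem_fixSub (Or.inl rfl) (Or.inr (Or.inl rfl))
    · exact swap_mem_fixSub (Or.inr (Or.inr (Or.inr rfl))) (Or.inr (Or.inr (Or.inl rfl)))
  have hAf : Subgroup.closure A ≤ presSub f := by
    rw [Subgroup.closure_le]
    rintro τ (rfl | rfl)
    · apply swap_mem_presSub
      simp only [hf]
      constructor <;> intro _ <;> omega
    · apply swap_mem_presSub
      simp only [hf]
      rw [hv, hv]
      have := k.2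
      have := k'.2
      constructor <;> intro _ <;> omega
  have hρA : rhoS k k' ∈ Subgroup.closure A := by
    unfold rhoS
    apply mul_mem
    · exact Subgroup.subset_closure (Or.inl rfl)
    · rw [Equiv.swap_comm]
      exact Subgroup.subset_closure (Or.inr rfl)
  -- a permutation in the closure which commutes with the reversal is determined by its
  -- values at `k` and `k'`
  have huniq : ∀ w w' : Equiv.Perm (Fin N), w ∈ Subgroup.closure A → w' ∈ Subgroup.closure A →
      revC w = w → revC w' = w' → w k = w' k → w k' = w' k' → w = w' := by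
    intro w w' hw hw' hc hc' e1 e2
    have hr := (revC_eq_self_iff w).1 hc
    have hr' := (revC_eq_self_iff w').1 hc'
    ext x
    congr 1
    by_cases hx : E x
    · rcases hx with rfl | rfl | rfl | rfl
      · exact e1
      · exact e2
      · rw [hr, hr', e1]
      · rw [hr, hr', e2]
    · rw [hAE hw x hx, hAE hw' x hx]
  -- the values at `k` and `k'` lie in `{k, k'}`
  have hval : ∀ w : Equiv.Perm (Fin N), w ∈ Subgroup.closure A → ∀ x, (x = k ∨ x = k') →
      (w x = k ∨ w x = k') := by
    intro w hw x hx
    have hxE : E x := by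
      rcases hx with rfl | rfl
      · exact Or.inl rfl
      · exact Or.inr (Or.inl rfl)
    have hxf : f x := by
      rcases hx with rfl | rfl
      · exact hkm
      · exact hk'
    have h5 := apply_mem_of_mem_fixSub (hAE hw) hxE
    have h6 : f (w x) := (hAf hw x).2 hxf
    rcases h5 with h5 | h5 | h5 | h5
    · exact Or.inl h5
    · exact Or.inr h5
    · exfalso
      simp only [hf] at h6
      rw [h5, hv] at h6
      have := k.2
      omega
    · exfalso
      simp only [hf] at h6
      rw [h5, hv] at h6
      have := k'.2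
      omega
  refine ⟨A, ?_, hρA, ?_⟩
  · rintro τ (rfl | rfl)
    · exact ⟨k, k', hk, rfl⟩
    · refine ⟨k'.rev, k.rev, ?_, rfl⟩
      rw [hv, hv]
      have := k'.2
      omega
  · intro w hw hc
    have hρk : rhoS k k' k = k' := by
      unfold rhoS
      rw [Equiv.Perm.mul_apply, Equiv.swap_apply_of_ne_of_ne h1 h2, Equiv.swap_apply_left]
    have hρk' : rhoS k k' k' = k := by
      unfold rhoS
      rw [Equiv.Perm.mul_apply, Equiv.swap_apply_of_ne_of_ne h3 h4, Equiv.swap_apply_right]
    rcases hval w hw k (Or.inl rfl) with e1 | e1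
    · left
      rcases hval w hw k' (Or.inr rfl) with e2 | e2
      · exfalso
        exact hne (w.injective (e1.trans e2.symm))
      · exact huniq w 1 hw (one_mem _) hc revC_one e1 e2
    · right
      rcases hval w hw k' (Or.inr rfl) with e2 | e2
      · exact huniq w (rhoS k k') hw hρA hc (revC_rhoS hkm hk' hne) (e1.trans hρk.symm)
          (e2.trans hρk'.symm)
      · exfalso
        exact hne (w.injective (e1.trans e2.symm))

/-! ### the middle reflection -/

theorem adj_mid {k : Fin N} (hk : (k : ℕ) + 1 = N / 2) :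
    ∃ A : Set (Equiv.Perm (Fin N)),
      (∀ τ ∈ A, ∃ a a' : Fin N, (a : ℕ) + 1 = a' ∧ τ = Equiv.swap a a') ∧
      rhoM k ∈ Subgroup.closure A ∧
      ∀ w ∈ Subgroup.closure A, revC w = w → w = 1 ∨ w = rhoM k := by
  have hv : ∀ x : Fin N, ((x.rev : Fin N) : ℕ) = N - (x + 1) := fun x => Fin.val_rev x
  have hkr : k ≠ k.rev := fun e => by have := congrArg Fin.val e; rw [hv] at this; omega
  set E : Fin N → Prop := fun x => (k : ℕ) ≤ x ∧ (x : ℕ) ≤ (k.rev : Fin N) with hE
  set A : Set (Equiv.Perm (Fin N)) :=
    {τ | ∃ a a' : Fin N, (a : ℕ) + 1 = a' ∧ E a ∧ E a' ∧ τ = Equiv.swap a a'} with hA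
  have hAE : Subgroup.closure A ≤ fixSub E := by
    rw [Subgroup.closure_le]
    rintro τ ⟨a, a', -, ha, ha', rfl⟩
    exact swap_mem_fixSub ha ha'
  have hρA : rhoM k ∈ Subgroup.closure A := by
    unfold rhoM
    by_cases hpar : (k : ℕ) + 1 = (k.rev : Fin N)
    · apply Subgroup.subset_closure
      refine ⟨k, k.rev, hpar, ?_, ?_, rfl⟩
      · simp only [hE]; omega
      · simp only [hE]; omega
    · -- `N` is odd
      have hN : N = 2 * (N / 2) + 1 := by
        rw [hv] at hpar
        have := k.2
        omega
      have hc : (k : ℕ) + 1 < N := by omega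
      set c : Fin N := ⟨(k : ℕ) + 1, hc⟩ with hcdef
      have hcE : E c := by
        simp only [hE, hcdef]
        rw [hv]
        omega
      have hkE : E k := by simp only [hE]; rw [hv]; omega
      have hkrE : E k.rev := by simp only [hE]; rw [hv]; omega
      have hkc : k ≠ c := fun e => by have := congrArg Fin.val e; simp only [hcdef] at this; omega
      have e := Equiv.swap_mul_swap_mul_swap (x := k) (y := c) (z := k.rev) hkc hkr
      rw [Equiv.swap_comm k.rev k] at e
      rw [← e]
      have h1 : Equiv.swap c k.rev ∈ Subgroup.closure A := by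
        apply Subgroup.subset_closure
        refine ⟨c, k.rev, ?_, hcE, hkrE, rfl⟩
        simp only [hcdef]
        rw [hv]
        omega
      have h2 : Equiv.swap k c ∈ Subgroup.closure A := by
        apply Subgroup.subset_closure
        exact ⟨k, c, rfl, hkE, hcE, rfl⟩
      exact mul_mem (mul_mem h1 h2) h1
  refine ⟨A, ?_, hρA, ?_⟩
  · rintro τ ⟨a, a', h, -, -, rfl⟩
    exact ⟨a, a', h, rfl⟩
  · intro w hw hc
    have hr := (revC_eq_self_iff w).1 hc
    -- every point other than `k` and `rev k` is fixed
    have hfixed : ∀ x : Fin N, x ≠ k → x ≠ k.rev → w x = x := by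
      intro x hx1 hx2
      by_cases hx : E x
      · have hxv : (x : ℕ) ≠ k := fun e => hx1 (Fin.ext e)
        have hxv2 : (x : ℕ) ≠ (k.rev : Fin N) := fun e => hx2 (Fin.ext e)
        simp only [hE] at hx
        rw [hv] at hx hxv2
        have hx2' : 2 * (x : ℕ) + 1 = N := by have := x.2; omega
        have hxrev : x.rev = x := by apply Fin.ext; rw [hv]; omega
        have h1 := hr x
        rw [hxrev] at h1
        have h2 := congrArg Fin.val h1
        rw [hv] at h2
        apply Fin.ext
        have := (w x).2
        omega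
      · exact hAE hw x hx
    have hwk : w k = k ∨ w k = k.rev := by
      by_contra hcon
      push Not at hcon
      have := hfixed (w k) hcon.1 hcon.2
      exact hcon.1 (w.injective this)
    rcases hwk with e1 | e1
    · left
      ext x
      congr 1
      by_cases hx1 : x = k
      · rw [hx1]; exact e1
      · by_cases hx2 : x = k.rev
        · rw [hx2, hr, e1]; rfl
        · exact hfixed x hx1 hx2
    · right
      ext x
      congr 1
      unfold rhoM
      by_cases hx1 : x = k
      · rw [hx1, e1, Equiv.swap_apply_left]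
      · by_cases hx2 : x = k.rev
        · rw [hx2, hr, e1, Fin.rev_rev, Equiv.swap_apply_right]
        · rw [hfixed x hx1 hx2, Equiv.swap_apply_of_ne_of_ne hx1 hx2]

theorem adj_rho (j : ℕ) (hj : j < N / 2) :
    ∃ A : Set (Equiv.Perm (Fin N)),
      (∀ τ ∈ A, ∃ a a' : Fin N, (a : ℕ) + 1 = a' ∧ τ = Equiv.swap a a') ∧
      rho N j ∈ Subgroup.closure A ∧
      ∀ w ∈ Subgroup.closure A, revC w = w → w = 1 ∨ w = rho N j := by
  unfold rho
  by_cases h : j + 1 < N / 2
  · rw [dif_pos h]
    exact adj_short rfl h
  · rw [dif_neg h, dif_pos (by omega)]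
    exact adj_mid (by simp only; omega)

end Cfsg.Agent.Lib.Helper8.Tw
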