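import Mathlib
import Cfsg.Agent.Lib.Helper8.Tw.UAdj

/-!
# The Steinberg character of the unitary group of the antidiagonal Hermitian form (helper8)
-/

set_option autoImplicit false

namespace Cfsg.Agent.Lib.Helper8.Tw

open Matrix Cfsg Cfsg.Agent.Lib.Helper5.GLBN Cfsg.Agent.Lib.Helper5.BN DoubleCoset
open Cfsg.Agent.Lib.Helper8.SpBN
open scoped MatrixGroups

variable {N : ℕ} {F : Type*} [Field F]

/-- a transvection is a pattern matrix -/
theorem isPat_tv {r : Fin N → Fin N → Prop} {a b : Fin N} (hab : a < b) (hr : r a b) (c : F) :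
    IsPat r ((tv a b (ne_of_lt hab) c : GL (Fin N) F) : Matrix (Fin N) (Fin N) F) := by
  refine ⟨?_, ?_, ?_⟩
  · intro i
    rw [tv_coe, transvection_apply, if_pos rfl, if_neg, add_zero]
    rintro ⟨h1, h2⟩
    exact (ne_of_lt hab) (h1.trans h2.symm)
  · intro i j hji
    rw [tv_coe, transvection_apply, if_neg (ne_of_gt hji), if_neg, add_zero]
    rintro ⟨h1, h2⟩
    rw [← h1, ← h2] at hji
    exact lt_asymm hab hji
  · intro i j hij hn
    rw [tv_coe, transvection_apply, if_neg (ne_of_lt hij), if_neg, add_zero]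
    rintro ⟨h1, h2⟩
    rw [← h1, ← h2] at hn
    exact hn hr

theorem tv_apply_self (a b : Fin N) (hab : a ≠ b) (c : F) :
    ((tv a b hab c : GL (Fin N) F) : Matrix (Fin N) (Fin N) F) a b = c := by
  rw [tv_coe, transvection_apply, if_neg hab, if_pos ⟨rfl, rfl⟩, zero_add]

/-- the root elements of the unitary group -/
theorem root_rho [Finite F] (φ : F →+* F) (hz : ∃ z : F, z ≠ 0 ∧ z + φ z = 0) (j : ℕ)
    (hj : j < N / 2) :
    ∃ b : GL (Fin N) F, usig φ b = b ∧
      IsPat (rM (rho N j)) (b : Matrix (Fin N) (Fin N) F) ∧ b ≠ 1 := by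
  have hv : ∀ x : Fin N, ((x.rev : Fin N) : ℕ) = N - (x + 1) := fun x => Fin.val_rev x
  unfold rho
  by_cases h : j + 1 < N / 2
  · rw [dif_pos h]
    obtain ⟨k, hk⟩ : ∃ k : Fin N, (k : ℕ) = j := ⟨⟨j, by omega⟩, rfl⟩
    obtain ⟨k', hk'⟩ : ∃ k' : Fin N, (k' : ℕ) = j + 1 := ⟨⟨j + 1, by omega⟩, rfl⟩
    have e1 : (⟨j, by omega⟩ : Fin N) = k := Fin.ext hk.symm
    have e2 : (⟨j + 1, by omega⟩ : Fin N) = k' := Fin.ext hk'.symm
    rw [e1, e2]
    have hlt : k < k' := by rw [Fin.lt_def]; omega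
    have hne : k ≠ k' := ne_of_lt hlt
    have hlt' : k'.rev < k.rev := Fin.rev_lt_rev.2 hlt
    have h1 : k ≠ k.rev := fun e => by have := congrArg Fin.val e; rw [hv] at this; omega
    have h2 : k ≠ k'.rev := fun e => by have := congrArg Fin.val e; rw [hv] at this; omega
    have h3 : k' ≠ k.rev := fun e => by have := congrArg Fin.val e; rw [hv] at this; omega
    have h4 : k' ≠ k'.rev := fun e => by have := congrArg Fin.val e; rw [hv] at this; omega
    have hρk : rhoS k k' k = k' := by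
      unfold rhoS
      rw [Equiv.Perm.mul_apply, Equiv.swap_apply_of_ne_of_ne h1 h2, Equiv.swap_apply_left]
    have hρk' : rhoS k k' k' = k := by
      unfold rhoS
      rw [Equiv.Perm.mul_apply, Equiv.swap_apply_of_ne_of_ne h3 h4, Equiv.swap_apply_right]
    have hρr : ∀ b, rhoS k k' b.rev = (rhoS k k' b).rev :=
      (revC_eq_self_iff _).1 (revC_rhoS (by omega) (by omega) hne)
    refine ⟨tv k k' hne 1 * tv k'.rev k.rev (ne_of_lt hlt') (-1), ?_, ?_, ?_⟩
    · rw [map_mul, usig_tv, usig_tv, map_one, map_neg, map_one, neg_neg]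
      have e3 : tv k.rev.rev k'.rev.rev
          (fun h => (ne_of_lt hlt') (Fin.rev_injective h).symm) (1 : F) = tv k k' hne 1 :=
        tv_congr (Fin.rev_rev k) (Fin.rev_rev k') _ _ _
      rw [e3]
      apply commute_of_suppOn _ (suppOn_tv _ _ _ _) (suppOn_tv _ _ _ _)
      rw [Set.disjoint_left]
      rintro x (rfl | rfl) (h' | h')
      · exact h2.symm h'
      · exact h4.symm (Set.mem_singleton_iff.1 h')
      · exact h1.symm h'
      · exact h3.symm (Set.mem_singleton_iff.1 h')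
    · rw [Units.val_mul]
      apply IsPat.mul (rM_trans _)
      · apply isPat_tv hlt
        unfold rM
        rw [hρk, hρk']
        exact hlt
      · apply isPat_tv hlt'
        unfold rM
        rw [hρr, hρr, hρk, hρk']
        exact hlt'
    · intro e
      have h5 := congrArg (fun g : GL (Fin N) F => (g : Matrix (Fin N) (Fin N) F) k k') e
      simp only [Units.val_mul, Units.val_one] at h5
      rw [tv_coe (k'.rev), mul_transvection_apply_of_ne _ _ _ _ h3, tv_apply_self,
        Matrix.one_apply_ne hne] at h5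
      exact one_ne_zero h5
  · have hjm : j + 1 = N / 2 := by omega
    rw [dif_neg h, dif_pos hjm]
    obtain ⟨k, hk⟩ : ∃ k : Fin N, (k : ℕ) = j := ⟨⟨j, by omega⟩, rfl⟩
    have e1 : (⟨j, by omega⟩ : Fin N) = k := Fin.ext hk.symm
    rw [e1]
    have hlt : k < k.rev := by rw [Fin.lt_def, hv]; omega
    obtain ⟨z, hz0, hz⟩ := hz
    have hz' : -(φ z) = z := by
      rw [neg_eq_iff_add_eq_zero, add_comm]; exact hz
    refine ⟨tv k k.rev (ne_of_lt hlt) z, ?_, ?_, ?_⟩
    · rw [usig_tv]
      have : ∀ (a b : Fin N) (h : a ≠ b) (c : F), a = k → b = k.rev → c = z →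
          tv a b h c = tv k k.rev (ne_of_lt hlt) z := by
        intro a b h c ha hb hc
        subst ha hb hc
        rfl
      exact this _ _ _ _ (Fin.rev_rev k) rfl hz'
    · apply isPat_tv hlt
      unfold rM rhoM
      rw [Equiv.swap_apply_right, Equiv.swap_apply_left]
      exact hlt
    · intro e
      have h5 := congrArg (fun g : GL (Fin N) F => (g : Matrix (Fin N) (Fin N) F) k k.rev) e
      simp only [Units.val_one] at h5
      rw [tv_apply_self, Matrix.one_apply_ne (ne_of_lt hlt)] at h5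
      exact hz0 h5

/-- the data of the unitary group -/
def uData [Finite F] (φ : F →+* F) (hφ : ∀ x, φ (φ x) = x)
    (hz : ∃ z : F, z ≠ 0 ∧ z + φ z = 0) (N : ℕ) : TwData N F where
  toTwist := uTwist φ hφ
  l := N / 2
  ρ := rho N
  ρ_sq := rho_sq
  ρ_fix := fun j hj => by
    show usig φ (permGL (rho N j)) = permGL (rho N j)
    rw [usig_permGL, revC_rho j hj]
  gen := fun ν π hν hπ => by
    apply mem_closure_rho π
    rw [← revC_eq_self_iff]
    have h1 : IsMono ((usig φ ν : GL (Fin N) F) : Matrix (Fin N) (Fin N) F) (revC π) :=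
      usig_isMono φ hπ
    have hν' : usig φ ν = ν := hν
    rw [hν'] at h1
    exact h1.unique hπ
  adj := adj_rho
  root := root_rho φ hz
  rev_fix := by
    show usig φ (RG N F) = RG N F
    unfold RG
    rw [usig_permGL, revC_revPerm]

theorem uData_G [Finite F] (φ : F →+* F) (hφ : ∀ x, φ (φ x) = x)
    (hz : ∃ z : F, z ≠ 0 ∧ z + φ z = 0) (N : ℕ) : (uData φ hφ hz N).G = UH N F φ := rfl

/-- the Steinberg character of the fixed points of a twist -/
theorem TwData.exists_steinberg [Finite F] (T : TwData N F) (p : ℕ) [Fact p.Prime] [CharP F p] :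
    ∃ χ : ↥T.G → ℂ, IsIrrCharacter ↥T.G χ ∧
      χ 1 = ((p ^ (Nat.card ↥T.G).factorization p : ℕ) : ℂ) ∧
      (∀ (x c : ↥T.G) (z : F),
        ((c : GL (Fin N) F) : Matrix (Fin N) (Fin N) F) = Matrix.diagonal (fun _ => z) →
          χ (x * c) = χ x) ∧
      (∀ t : ↥T.G, IsMono ((t : GL (Fin N) F) : Matrix (Fin N) (Fin N) F) 1 → χ t ≠ 0) := by
  refine ⟨T.st.stC, T.st.isIrrCharacter_stC, ?_, ?_, ?_⟩
  · rw [T.st.stC_one, T.card_BmodK p]
  · intro x c z hc
    apply T.st.stC_mul_central x c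
    · rw [Subgroup.mem_center_iff]
      intro y
      apply Subtype.ext
      apply Units.ext
      show ((y : GL (Fin N) F) : Matrix (Fin N) (Fin N) F) * ((c : GL (Fin N) F) : Matrix _ _ F)
        = ((c : GL (Fin N) F) : Matrix _ _ F) * ((y : GL (Fin N) F) : Matrix (Fin N) (Fin N) F)
      rw [hc]
      ext i j
      rw [Matrix.mul_diagonal, Matrix.diagonal_mul, mul_comm]
    · show c ∈ T.BF
      rw [T.mem_BF]
      apply mem_upper_of_isMono_one
      rw [hc]
      exact isMono_diagonal _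
  · intro t ht
    exact T.st.stC_ne_zero_of_mem_diagK (T.mem_diagK_iff.2 ht)

/-- **The Steinberg character of the unitary group of the antidiagonal Hermitian form.** -/
theorem exists_steinberg_UH {F : Type*} [Field F] [Fintype F] (p : ℕ) [Fact p.Prime] [CharP F p]
    (φ : F →+* F) (hφ : ∀ x, φ (φ x) = x) (hz : ∃ z : F, z ≠ 0 ∧ z + φ z = 0) (N : ℕ) :
    ∃ χ : ↥(UH N F φ) → ℂ, IsIrrCharacter ↥(UH N F φ) χ ∧
      χ 1 = ((p ^ (Nat.card ↥(UH N F φ)).factorization p : ℕ) : ℂ) ∧
      (∀ (x c : ↥(UH N F φ)) (z : F),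
        ((c : GL (Fin N) F) : Matrix (Fin N) (Fin N) F) = Matrix.diagonal (fun _ => z) →
          χ (x * c) = χ x) ∧
      (∀ t : ↥(UH N F φ), IsMono ((t : GL (Fin N) F) : Matrix (Fin N) (Fin N) F) 1 →
        χ t ≠ 0) :=
  (uData φ hφ hz N).exists_steinberg p

end Cfsg.Agent.Lib.Helper8.Tw
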