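import Mathlib
import Cfsg.Agent.Lib.Helper8.Tw.UData
import Cfsg.Agent.S0026
import Cfsg.Agent.Lib.S2544.Restrict
import Cfsg.Agent.Lib.helper3.Inflate2
import Cfsg.Agent.Lib.helper3.Irr12
import Cfsg.Agent.Lib.helper3.DefectZero

/-!
# The Steinberg character of the central quotient of the derived subgroup (helper8)

For the fixed points `G` of a twist of `GL_N(F)` such that no unitriangular fixed point other
than `1` commutes with the torus, the Steinberg character of `G` restricts irreducibly to the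
derived subgroup `G'` and is trivial on the centre of `G'`.
-/

set_option autoImplicit false

namespace Cfsg.Agent.Lib.Helper8.Tw

open Matrix Cfsg Cfsg.Agent.Lib.Helper5.GLBN Cfsg.Agent.Lib.Helper5.BN DoubleCoset
open Cfsg.Agent.Lib.Helper8.SpBN Cfsg.Agent.Lib.helper3 Cfsg.Agent.Lib.helper3.Irr
open scoped MatrixGroups

/-! ### generalities -/

/-- an irreducible character whose degree is the `p`-part of the group order is a Steinberg
character -/
theorem steinberg_of_degree {X : Type*} [Group X] [Finite X] (p : ℕ) [hp : Fact p.Prime]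
    {ψ : X → ℂ} (hψ : IsIrrCharacter X ψ)
    (h1 : ψ 1 = ((p ^ (Nat.card X).factorization p : ℕ) : ℂ)) :
    ∀ P : Sylow p X, ψ 1 = Nat.card P ∧ ∀ x : X, x ∈ P → x ≠ 1 → ψ x = 0 := by
  classical
  have hpp : p.Prime := hp.out
  intro P
  set a := (Nat.card X).factorization p with ha
  have hcardP : Nat.card P = p ^ a := P.card_eq_multiplicity
  refine ⟨by rw [h1, hcardP], ?_⟩
  intro x hxP hx1
  let _ : Fintype X := Fintype.ofFinite _
  obtain ⟨d, ρ, hirr, hρ⟩ := hψ
  have := hirr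
  have hd : d = p ^ a := by
    have h2 : ρ.character 1 = (d : ℂ) := by
      rw [Representation.char_one]
      simp
    rw [hρ, h1] at h2
    exact_mod_cast h2.symm
  have hn' : ¬ p ^ (a + 1) ∣ Nat.card X :=
    Nat.pow_succ_factorization_not_dvd Nat.card_pos.ne' hpp
  have hdeg : p ^ a ∣ Module.finrank ℂ (Fin d → ℂ) := by
    rw [Module.finrank_fin_fun, hd]
  have hx : p ∣ orderOf x := by
    obtain ⟨k, hk⟩ := (IsPGroup.iff_orderOf.1 P.isPGroup') ⟨x, hxP⟩
    rw [Subgroup.orderOf_mk] at hk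
    rw [hk]
    apply dvd_pow_self
    intro hk0
    rw [hk0, pow_zero, orderOf_eq_one_iff] at hk
    exact hx1 hk
  rw [← hρ]
  exact BrauerInd.character_eq_zero_of_defect_zero ρ p a hn' hdeg x hx

theorem fixedBy_mul_of_conj_mem {G : Type*} [Group G] (H : Subgroup G) (x z : G)
    (hz : ∀ g : G, g⁻¹ * z * g ∈ H) :
    MulAction.fixedBy (G ⧸ H) (x * z) = MulAction.fixedBy (G ⧸ H) x := by
  ext y
  induction y using QuotientGroup.induction_on with
  | H y =>
    rw [MulAction.mem_fixedBy, MulAction.mem_fixedBy, MulAction.Quotient.smul_mk,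
      MulAction.Quotient.smul_mk]
    have e2 : (((x * z) • y : G) : G ⧸ H) = ((x • y : G) : G ⧸ H) := by
      rw [QuotientGroup.eq]
      have : ((x * z) • y)⁻¹ * (x • y) = (y⁻¹ * z * y)⁻¹ := by
        simp only [smul_eq_mul]; group
      rw [this]
      exact inv_mem (hz y)
    rw [e2]

theorem StData.stC_mul_of_conj_mem {G : Type*} [Group G] {P : BNPair G} (S : StData P)
    (x z : G) (hz : ∀ g : G, g⁻¹ * z * g ∈ P.B) : S.stC (x * z) = S.stC x := by
  unfold StData.stC StData.stZ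
  congr 1
  apply Finset.sum_congr rfl
  intro J _
  rw [fixedBy_mul_of_conj_mem (S.QJ J) x z (fun g => B_le_parabolic P _ (hz g))]

/-! ### the derived subgroup -/

variable {N : ℕ} {F : Type*} [Field F] (T : TwData N F)

/-- the torus has order prime to `p` -/
theorem TwData.diagK_coprime [Finite F] (p : ℕ) [hp : Fact p.Prime] [CharP F p] :
    (Nat.card ↥T.st.diagK).Coprime p := by
  rw [Nat.coprime_comm, Nat.Prime.coprime_iff_not_dvd hp.out]
  intro hdvd
  obtain ⟨t, ht⟩ := exists_prime_orderOf_dvd_card' p hdvd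
  have h1 : t ^ p ^ 1 = 1 := by rw [pow_one, ← ht]; exact pow_orderOf_eq_one t
  have h2 : (((t : ↥T.G) : GL (Fin N) F)) ^ p ^ 1 = 1 := by
    rw [← Subgroup.coe_pow, ← Subgroup.coe_pow, h1]
    rfl
  have hmono := T.mem_diagK_iff.1 t.2
  have h3 := eq_one_of_mem_UT_of_isMono
    (mem_UT_of_pow p (mem_upper_of_isMono_one hmono) 1 h2) hmono
  have h4 : t = 1 := Subtype.ext (Subtype.ext h3)
  rw [h4, orderOf_one] at ht
  exact hp.out.one_lt.ne ht

theorem TwData.UF_le_commutator [Finite F] (p : ℕ) [hp : Fact p.Prime] [CharP F p]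
    (hC : ∀ u : ↥T.G, u ∈ T.UF → (∀ t ∈ T.st.diagK, t * u = u * t) → u = 1) :
    T.UF ≤ commutator ↥T.G := by
  have hAK : T.st.diagK ≤ Subgroup.normalizer (T.UF : Set ↥T.G) := by
    intro t ht
    rw [Subgroup.mem_normalizer_iff]
    intro h
    constructor
    · intro hh
      exact T.UF_normal t (T.st.diagK_le ht) h hh
    · intro hh
      have := T.UF_normal t⁻¹ (inv_mem (T.st.diagK_le ht)) _ hh
      have e : t⁻¹ * (t * h * t⁻¹) * t⁻¹⁻¹ = h := by group
      rwa [e] at this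
  have hcop : (Nat.card ↥T.st.diagK).Coprime (Nat.card ↥T.UF) := by
    rw [T.card_UF p]
    exact Nat.Coprime.pow_right _ (T.diagK_coprime p)
  have hnil : Group.IsNilpotent ↥T.UF := (T.isPGroup_UF p).isNilpotent
  have hsolv : Group.IsSolvable ↥T.UF := inferInstance
  have h := Cfsg.Agent.S0026.result T.st.diagK T.UF hAK hcop (Or.inr hsolv)
  have hcent : T.UF ⊓ Subgroup.centralizer (T.st.diagK : Set ↥T.G) = ⊥ := by
    rw [eq_bot_iff]
    rintro u ⟨hu1, hu2⟩
    rw [Subgroup.mem_bot]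
    exact hC u hu1 (fun t ht => Subgroup.mem_centralizer_iff.1 hu2 t ht)
  rw [hcent, sup_bot_eq] at h
  rw [← h]
  exact Subgroup.commutator_mono le_top le_top

/-- the group is generated by the torus and the derived subgroup -/
theorem TwData.diagK_sup_commutator [Finite F] (p : ℕ) [Fact p.Prime] [CharP F p]
    (hU : T.UF ≤ commutator ↥T.G) : T.st.diagK ⊔ commutator ↥T.G = ⊤ := by
  set H : Subgroup ↥T.G := T.st.diagK ⊔ commutator ↥T.G with hH
  have hBH : T.BF ≤ H := by
    intro b hb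
    obtain ⟨t, ht, hbt⟩ := T.exists_torus_decomp hb
    have : b = (b * t⁻¹) * t := by group
    rw [this]
    exact mul_mem (Subgroup.mem_sup_right (hU hbt)) (Subgroup.mem_sup_left ht)
  have hSH : T.SF ⊆ (H : Set ↥T.G) := by
    intro x hx
    have hxN : x ∈ T.NF := T.bn.subset hx
    obtain ⟨j, hj, e⟩ := hx
    obtain ⟨b, hbfix, hbpat, hb1⟩ := T.root j hj
    have hbU : (⟨b, hbfix⟩ : ↥T.G) ∈ T.UF :=
      T.mem_UF.2 (mem_UT_iff_isUni.2 hbpat.isUni)
    have hbB : (⟨b, hbfix⟩ : ↥T.G) ∈ T.BF := T.UF_le_BF hbU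
    have hconj : x * ⟨b, hbfix⟩ * x⁻¹ ∈ commutator ↥T.G :=
      (inferInstance : (commutator ↥T.G).Normal).conj_mem _ (hU hbU) x
    have h1 := T.bn.mul_mem_union x ⟨j, hj, e⟩ x⁻¹ (inv_mem hxN) ⟨b, hbfix⟩ hbB
    rcases h1 with h1 | h1
    · exfalso
      rw [mul_inv_cancel] at h1
      have h2 : x * ⟨b, hbfix⟩ * x⁻¹ ∈ D T.bn 1 := h1
      rw [D_one] at h2
      have hup : permGL (T.ρ j) * b * (permGL (T.ρ j))⁻¹ ∈ upperTriangularGL N F := by
        have := T.mem_BF.1 h2
        rw [Subgroup.coe_mul, Subgroup.coe_mul, Subgroup.coe_inv, e] at this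
        exact this
      have hlow := conj_isLowUni_of_rM (isMono_permGL (F := F) (T.ρ j)) hbpat
      have h3 := eq_one_of_lowUni_of_upper hlow hup
      apply hb1
      calc b = (permGL (T.ρ j))⁻¹ * (permGL (T.ρ j) * b * (permGL (T.ρ j))⁻¹)
            * permGL (T.ρ j) := by group
        _ = 1 := by rw [h3]; group
    · have h2 : x * ⟨b, hbfix⟩ * x⁻¹ ∈ D T.bn x⁻¹ := h1
      rw [mem_D] at h2
      obtain ⟨β, hβ, β', hβ', h3⟩ := h2
      have h4 : x⁻¹ = β⁻¹ * (x * ⟨b, hbfix⟩ * x⁻¹) * β'⁻¹ := by rw [h3]; group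
      have h5 : x⁻¹ ∈ H := by
        rw [h4]
        exact mul_mem (mul_mem (inv_mem (hBH hβ)) (Subgroup.mem_sup_right hconj))
          (inv_mem (hBH hβ'))
      have := inv_mem h5
      rwa [inv_inv] at this
  rw [eq_top_iff, ← T.bn.sup_eq_top]
  apply sup_le hBH
  have h6 : T.bn.N = T.NF := rfl
  rw [h6, ← T.closure_sup_F]
  apply sup_le
  · rw [Subgroup.closure_le]; exact hSH
  · exact inf_le_left.trans hBH

/-- the restriction of the Steinberg character to the derived subgroup -/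
noncomputable def TwData.stD [Finite F] (g : ↥(commutator ↥T.G)) : ℂ := T.st.stC (g : ↥T.G)

theorem TwData.isIrrCharacter_stD [Finite F] (p : ℕ) [hp : Fact p.Prime] [CharP F p]
    (hU : T.UF ≤ commutator ↥T.G) : IsIrrCharacter ↥(commutator ↥T.G) T.stD := by
  classical
  let _ : Fintype ↥T.G := Fintype.ofFinite _
  let _ : Fintype ↥(commutator ↥T.G) := Fintype.ofFinite _
  apply Cfsg.Agent.S2544L.isIrrCharacter_restrict_of_nonvanishing (commutator ↥T.G) _
    T.st.isIrrCharacter_stC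
  · intro g
    have hg : g ∈ T.st.diagK ⊔ commutator ↥T.G := by
      rw [T.diagK_sup_commutator p hU]; exact Subgroup.mem_top g
    rw [← SetLike.mem_coe, Subgroup.mul_normal, Set.mem_mul] at hg
    obtain ⟨t, ht, ω, hω, rfl⟩ := hg
    refine ⟨ω⁻¹, inv_mem hω, ?_⟩
    rw [mul_inv_cancel_right]
    exact T.st.stC_ne_zero_of_mem_diagK ht
  · intro x y
    exact Subgroup.commutator_mem_commutator (Subgroup.mem_top x) (Subgroup.mem_top y)

/-- the conjugates of a central element of the derived subgroup lie in `B` -/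
theorem TwData.center_conj_mem [Finite F] (hU : T.UF ≤ commutator ↥T.G)
    (z : ↥(commutator ↥T.G)) (hz : z ∈ Subgroup.center ↥(commutator ↥T.G)) (g : ↥T.G) :
    g⁻¹ * (z : ↥T.G) * g ∈ T.BF := by
  apply T.normalizer_UF_le
  have hcomm : ∀ u ∈ T.UF, (g⁻¹ * (z : ↥T.G) * g) * u = u * (g⁻¹ * (z : ↥T.G) * g) := by
    intro u hu
    have hω : g * u * g⁻¹ ∈ commutator ↥T.G :=
      (inferInstance : (commutator ↥T.G).Normal).conj_mem _ (hU hu) g
    have h1 := Subgroup.mem_center_iff.1 hz ⟨g * u * g⁻¹, hω⟩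
    have h2 := congrArg (Subtype.val : ↥(commutator ↥T.G) → ↥T.G) h1
    simp only [Subgroup.coe_mul] at h2
    calc g⁻¹ * (z : ↥T.G) * g * u = g⁻¹ * ((z : ↥T.G) * (g * u * g⁻¹)) * g := by group
      _ = g⁻¹ * ((g * u * g⁻¹) * (z : ↥T.G)) * g := by rw [h2]
      _ = u * (g⁻¹ * (z : ↥T.G) * g) := by group
  rw [Subgroup.mem_normalizer_iff]
  intro u
  constructor
  · intro hu
    have := hcomm u hu
    have e : g⁻¹ * (z : ↥T.G) * g * u * (g⁻¹ * (z : ↥T.G) * g)⁻¹ = u := by
      rw [this]; group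
    rw [e]; exact hu
  · intro hu
    set c := g⁻¹ * (z : ↥T.G) * g with hc
    have hv := hcomm _ hu
    have h5 : c * (c * u * c⁻¹) = c * u := by rw [hv]; group
    have e : c * u * c⁻¹ = u := mul_left_cancel h5
    rw [← e]; exact hu

theorem TwData.stD_mul_central [Finite F] (hU : T.UF ≤ commutator ↥T.G)
    (g z : ↥(commutator ↥T.G)) (hz : z ∈ Subgroup.center ↥(commutator ↥T.G)) :
    T.stD (g * z) = T.stD g := by
  unfold TwData.stD
  rw [Subgroup.coe_mul]
  exact T.st.stC_mul_of_conj_mem _ _ (fun x => T.center_conj_mem hU z hz x)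

/-- the centre of the derived subgroup has order prime to `p` -/
theorem TwData.center_coprime [Finite F] (p : ℕ) [hp : Fact p.Prime] [CharP F p]
    (hU : T.UF ≤ commutator ↥T.G) :
    (Nat.card ↥(Subgroup.center ↥(commutator ↥T.G))).Coprime p := by
  rw [Nat.coprime_comm, Nat.Prime.coprime_iff_not_dvd hp.out]
  intro hdvd
  obtain ⟨z, hz⟩ := exists_prime_orderOf_dvd_card' p hdvd
  have h1 : z ^ p ^ 1 = 1 := by rw [pow_one, ← hz]; exact pow_orderOf_eq_one z
  have key : ∀ g : ↥T.G, ((g⁻¹ * ((z : ↥(commutator ↥T.G)) : ↥T.G) * g : ↥T.G) : GL (Fin N) F)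
      ∈ UT N F := by
    intro g
    have hB := T.center_conj_mem hU (z : ↥(commutator ↥T.G)) z.2 g
    apply mem_UT_of_pow p (T.mem_BF.1 hB) 1
    have h2 : (g⁻¹ * ((z : ↥(commutator ↥T.G)) : ↥T.G) * g) ^ p ^ 1 = 1 := by
      have h3 : (((z ^ p ^ 1 : ↥(Subgroup.center ↥(commutator ↥T.G))) :
          ↥(commutator ↥T.G)) : ↥T.G) = 1 := by rw [h1]; rfl
      rw [Subgroup.coe_pow, Subgroup.coe_pow] at h3
      have h4 : (g⁻¹ * ((z : ↥(commutator ↥T.G)) : ↥T.G) * g) ^ p ^ 1
          = g⁻¹ * (((z : ↥(commutator ↥T.G)) : ↥T.G)) ^ p ^ 1 * g := by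
        have := conj_pow (a := g⁻¹) (b := ((z : ↥(commutator ↥T.G)) : ↥T.G)) (i := p ^ 1)
        rw [inv_inv] at this
        exact this
      rw [h4, h3]; group
    rw [← Subgroup.coe_pow, h2]
    rfl
  have hz1 := key 1
  rw [inv_one, one_mul, mul_one] at hz1
  have hz2 := key T.n0F⁻¹
  rw [inv_inv] at hz2
  have hz3 : (((z : ↥(commutator ↥T.G)) : ↥T.G) : GL (Fin N) F) = 1 := by
    apply eq_one_of_mem_UT_of_isMono hz1
    intro i j hij
    have hij' : i ≠ j := by simpa using hij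
    rcases lt_or_gt_of_ne hij' with h | h
    · have h5 := (mem_upper.1 hz2.1) i.rev j.rev (Fin.rev_lt_rev.2 h)
      have h6 : ((T.n0F * ((z : ↥(commutator ↥T.G)) : ↥T.G) * T.n0F⁻¹ : ↥T.G) : GL (Fin N) F)
          = (RG N F)⁻¹ * (((z : ↥(commutator ↥T.G)) : ↥T.G) : GL (Fin N) F) * RG N F := by
        rw [RG_inv]
        show RG N F * _ * (RG N F)⁻¹ = _
        rw [RG_inv]
      rw [h6, RG_conj_apply, Fin.rev_rev, Fin.rev_rev] at h5
      exact h5
    · exact (mem_upper.1 hz1.1) i j h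
  have hz4 : z = 1 := Subtype.ext (Subtype.ext (Subtype.ext hz3))
  rw [hz4, orderOf_one] at hz
  exact hp.out.one_lt.ne hz

/-- **The Steinberg character of the central quotient of the derived subgroup.** -/
theorem TwData.exists_steinberg_derived [Finite F] (p : ℕ) [hp : Fact p.Prime] [CharP F p]
    (hC : ∀ u : ↥T.G, u ∈ T.UF → (∀ t ∈ T.st.diagK, t * u = u * t) → u = 1) :
    ∃ ψ : (↥(commutator ↥T.G) ⧸ Subgroup.center ↥(commutator ↥T.G)) → ℂ,
      IsIrrCharacter (↥(commutator ↥T.G) ⧸ Subgroup.center ↥(commutator ↥T.G)) ψ ∧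
      ψ 1 = ((p ^ (Nat.card (↥(commutator ↥T.G) ⧸
        Subgroup.center ↥(commutator ↥T.G))).factorization p : ℕ) : ℂ) := by
  have hpp : p.Prime := hp.out
  have hU := T.UF_le_commutator p hC
  obtain ⟨ψ, hψ, hinf⟩ := exists_eq_inflate (T.isIrrCharacter_stD p hU)
    (Subgroup.center ↥(commutator ↥T.G)) (fun g z hz => T.stD_mul_central hU g z hz)
  refine ⟨ψ, hψ, ?_⟩
  have h1 : ψ 1 = T.stD 1 := by
    rw [hinf, inflate_apply, QuotientGroup.mk_one]
  rw [h1]
  unfold TwData.stD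
  rw [Subgroup.coe_one, T.st.stC_one, T.card_BmodK p]
  congr 2
  -- the `p`-parts of the orders
  set Ω := commutator ↥T.G with hΩ
  have e1 := Subgroup.card_eq_card_quotient_mul_card_subgroup (Subgroup.center ↥Ω)
  have e2 : (Nat.card ↥Ω).factorization p
      = (Nat.card (↥Ω ⧸ Subgroup.center ↥Ω)).factorization p := by
    rw [e1, Nat.factorization_mul Nat.card_pos.ne' Nat.card_pos.ne', Finsupp.add_apply,
      Nat.factorization_eq_zero_of_not_dvd
        (hpp.coprime_iff_not_dvd.1 (T.center_coprime p hU).symm), add_zero]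
  rw [← e2]
  apply le_antisymm
  · have h3 : p ^ (Nat.card ↥T.G).factorization p ∣ Nat.card ↥Ω := by
      rw [← T.card_UF p]
      exact Subgroup.card_dvd_of_le hU
    exact (hpp.pow_dvd_iff_le_factorization Nat.card_pos.ne').1 h3
  · have h4 : Nat.card ↥Ω ∣ Nat.card ↥T.G := Subgroup.card_subgroup_dvd_card Ω
    exact (Nat.factorization_le_iff_dvd Nat.card_pos.ne' Nat.card_pos.ne').2 h4 p

end Cfsg.Agent.Lib.Helper8.Tw
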