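import Mathlib
import Cfsg.Agent.Lib.Helper8.Tw.Derived

/-!
# The odd-dimensional orthogonal group of the antidiagonal form (helper8)

The fixed points of `g ↦ R (g⁻¹)ᵀ R` in `GL_N(F)`, `N` odd, `2 ≠ 0` in `F`.
-/

set_option autoImplicit false

namespace Cfsg.Agent.Lib.Helper8.Tw

open Matrix Cfsg Cfsg.Agent.Lib.Helper5.GLBN Cfsg.Agent.Lib.Helper5.BN DoubleCoset
open Cfsg.Agent.Lib.Helper8.SpBN
open scoped MatrixGroups

variable {N : ℕ} {F : Type*} [Field F]

/-- the commutator relation of the transvections -/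
theorem tv_comm_rel {i j l : Fin N} (hij : i ≠ j) (hjl : j ≠ l) (hil : i ≠ l) (a b : F) :
    tv i j hij a * tv j l hjl b = tv j l hjl b * tv i j hij a * tv i l hil (a * b) := by
  apply Units.ext
  have z1 : Matrix.single j l b * Matrix.single i j a = (0 : Matrix (Fin N) (Fin N) F) :=
    Matrix.single_mul_single_of_ne _ _ _ _ hil.symm _
  have z2 : Matrix.single j l b * Matrix.single i l (a * b) = (0 : Matrix (Fin N) (Fin N) F) :=
    Matrix.single_mul_single_of_ne _ _ _ _ hil.symm _
  have z3 : Matrix.single i j a * Matrix.single i l (a * b) = (0 : Matrix (Fin N) (Fin N) F) :=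
    Matrix.single_mul_single_of_ne _ _ _ _ hij.symm _
  simp only [Units.val_mul, tv_coe, Matrix.transvection, Matrix.add_mul, Matrix.mul_add,
    Matrix.one_mul, Matrix.mul_one, Matrix.single_mul_single_same, z1, z2, z3,
    add_zero]
  abel

/-- the root elements of the odd-dimensional orthogonal group -/
theorem root_rho_odd [Finite F] (h2 : (2 : F) ≠ 0) (hN : N % 2 = 1) (j : ℕ)
    (hj : j < N / 2) :
    ∃ b : GL (Fin N) F, usig (RingHom.id F) b = b ∧
      IsPat (rM (rho N j)) (b : Matrix (Fin N) (Fin N) F) ∧ b ≠ 1 := by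
  have hv : ∀ x : Fin N, ((x.rev : Fin N) : ℕ) = N - (x + 1) := fun x => Fin.val_rev x
  unfold rho
  by_cases h : j + 1 < N / 2
  · rw [dif_pos h]
    obtain ⟨k, hk⟩ : ∃ k : Fin N, (k : ℕ) = j := ⟨⟨j, by omega⟩, rfl⟩
    obtain ⟨k', hk'⟩ : ∃ k' : Fin N, (k' : ℕ) = j + 1 := ⟨⟨j + 1, by omega⟩, rfl⟩
    have e1 : (⟨j, by omega⟩ : Fin N) = k := Fin.ext hk.symm
    have e2 : (⟨j + 1, by omega⟩ : Fin N) = k' := Fin.ext hk'.symm
    rw [e1, e2]
    have hlt : k < k' := by rw [Fin.lt_def]; omega
    have hne : k ≠ k' := ne_of_lt hlt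
    have hlt' : k'.rev < k.rev := Fin.rev_lt_rev.2 hlt
    have h1 : k ≠ k.rev := fun e => by have := congrArg Fin.val e; rw [hv] at this; omega
    have h2' : k ≠ k'.rev := fun e => by have := congrArg Fin.val e; rw [hv] at this; omega
    have h3 : k' ≠ k.rev := fun e => by have := congrArg Fin.val e; rw [hv] at this; omega
    have h4 : k' ≠ k'.rev := fun e => by have := congrArg Fin.val e; rw [hv] at this; omega
    have hρk : rhoS k k' k = k' := by
      unfold rhoS
      rw [Equiv.Perm.mul_apply, Equiv.swap_apply_of_ne_of_ne h1 h2', Equiv.swap_apply_left]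
    have hρk' : rhoS k k' k' = k := by
      unfold rhoS
      rw [Equiv.Perm.mul_apply, Equiv.swap_apply_of_ne_of_ne h3 h4, Equiv.swap_apply_right]
    have hρr : ∀ b, rhoS k k' b.rev = (rhoS k k' b).rev :=
      (revC_eq_self_iff _).1 (revC_rhoS (by omega) (by omega) hne)
    refine ⟨tv k k' hne 1 * tv k'.rev k.rev (ne_of_lt hlt') (-1), ?_, ?_, ?_⟩
    · rw [map_mul, usig_tv, usig_tv, map_one, map_neg, map_one, neg_neg]
      have e3 : tv k.rev.rev k'.rev.rev
          (fun h => (ne_of_lt hlt') (Fin.rev_injective h).symm) (1 : F) = tv k k' hne 1 :=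
        tv_congr (Fin.rev_rev k) (Fin.rev_rev k') _ _ _
      rw [e3]
      apply commute_of_suppOn _ (suppOn_tv _ _ _ _) (suppOn_tv _ _ _ _)
      rw [Set.disjoint_left]
      rintro x (rfl | rfl) (h' | h')
      · exact h2'.symm h'
      · exact h4.symm (Set.mem_singleton_iff.1 h')
      · exact h1.symm h'
      · exact h3.symm (Set.mem_singleton_iff.1 h')
    · rw [Units.val_mul]
      apply IsPat.mul (rM_trans _)
      · apply isPat_tv hlt
        unfold rM
        rw [hρk, hρk']
        exact hlt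
      · apply isPat_tv hlt'
        unfold rM
        rw [hρr, hρr, hρk, hρk']
        exact hlt'
    · intro e
      have h5 := congrArg (fun g : GL (Fin N) F => (g : Matrix (Fin N) (Fin N) F) k k') e
      simp only [Units.val_mul, Units.val_one] at h5
      rw [tv_coe (k'.rev), mul_transvection_apply_of_ne _ _ _ _ h3, tv_apply_self,
        Matrix.one_apply_ne hne] at h5
      exact one_ne_zero h5
  · have hjm : j + 1 = N / 2 := by omega
    rw [dif_neg h, dif_pos hjm]
    obtain ⟨k, hk⟩ : ∃ k : Fin N, (k : ℕ) = j := ⟨⟨j, by omega⟩, rfl⟩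
    obtain ⟨c, hc⟩ : ∃ c : Fin N, (c : ℕ) = j + 1 := ⟨⟨j + 1, by omega⟩, rfl⟩
    have e1 : (⟨j, by omega⟩ : Fin N) = k := Fin.ext hk.symm
    rw [e1]
    have hcrev : c.rev = c := by apply Fin.ext; rw [hv]; omega
    have hkc : k < c := by rw [Fin.lt_def]; omega
    have hck : c < k.rev := by rw [Fin.lt_def, hv]; omega
    have hlt : k < k.rev := lt_trans hkc hck
    have hρk : rhoM k k = k.rev := Equiv.swap_apply_left _ _
    have hρk' : rhoM k k.rev = k := Equiv.swap_apply_right _ _
    have hρc : rhoM k c = c := Equiv.swap_apply_of_ne_of_ne (ne_of_gt hkc) (ne_of_lt hck)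
    set b1 : GL (Fin N) F := tv k c (ne_of_lt hkc) 1 with hb1
    set b2 : GL (Fin N) F := tv c k.rev (ne_of_lt hck) (-1) with hb2
    refine ⟨b1 * b2 * tv k k.rev (ne_of_lt hlt) (1 / 2), ?_, ?_, ?_⟩
    · rw [map_mul, map_mul, hb1, hb2, usig_tv, usig_tv, usig_tv]
      simp only [RingHom.id_apply, neg_neg]
      have e3 : tv c.rev k.rev (fun h => (ne_of_lt hkc) (Fin.rev_injective h).symm) (-(1 : F))
          = tv c k.rev (ne_of_lt hck) (-1) := tv_congr hcrev rfl _ _ _
      have e4 : tv k.rev.rev c.rev (fun h => (ne_of_lt hck) (Fin.rev_injective h).symm) (1 : F)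
          = tv k c (ne_of_lt hkc) 1 := tv_congr (Fin.rev_rev k) hcrev _ _ _
      have e5 : tv k.rev.rev k.rev (fun h => (ne_of_lt hlt) (Fin.rev_injective h).symm)
          (-(1 / 2 : F)) = tv k k.rev (ne_of_lt hlt) (-(1 / 2)) :=
        tv_congr (Fin.rev_rev k) rfl _ _ _
      have hs : (1 : F) * -1 + 1 / 2 = -(1 / 2) := by
        field_simp
        ring
      rw [e3, e4, e5, tv_comm_rel (ne_of_lt hkc) (ne_of_lt hck) (ne_of_lt hlt) 1 (-1),
        mul_assoc (tv c k.rev (ne_of_lt hck) (-1) * tv k c (ne_of_lt hkc) 1), tv_mul_tv, hs]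
    · rw [Units.val_mul, Units.val_mul]
      apply IsPat.mul (rM_trans _)
      · apply IsPat.mul (rM_trans _)
        · apply isPat_tv hkc
          unfold rM
          rw [hρk, hρc]
          exact hck
        · apply isPat_tv hck
          unfold rM
          rw [hρk', hρc]
          exact hkc
      · apply isPat_tv hlt
        unfold rM
        rw [hρk, hρk']
        exact hlt
    · intro e
      have h5 := congrArg (fun g : GL (Fin N) F => (g : Matrix (Fin N) (Fin N) F) k c) e
      simp only [Units.val_mul, Units.val_one] at h5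
      rw [tv_coe k k.rev, mul_transvection_apply_of_ne _ _ _ _ (ne_of_lt hck), hb2, tv_coe c,
        mul_transvection_apply_of_ne _ _ _ _ (ne_of_lt hck), hb1, tv_apply_self,
        Matrix.one_apply_ne (ne_of_lt hkc)] at h5
      exact one_ne_zero h5

/-- the data of the odd-dimensional orthogonal group -/
def oData [Finite F] (h2 : (2 : F) ≠ 0) (N : ℕ) (hN : N % 2 = 1) : TwData N F where
  toTwist := uTwist (RingHom.id F) (fun _ => rfl)
  l := N / 2
  ρ := rho N
  ρ_sq := rho_sq
  ρ_fix := fun j hj => by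
    show usig (RingHom.id F) (permGL (rho N j)) = permGL (rho N j)
    rw [usig_permGL, revC_rho j hj]
  gen := fun ν π hν hπ => by
    apply mem_closure_rho π
    rw [← revC_eq_self_iff]
    have h1 : IsMono ((usig (RingHom.id F) ν : GL (Fin N) F) : Matrix (Fin N) (Fin N) F)
        (revC π) := usig_isMono _ hπ
    have hν' : usig (RingHom.id F) ν = ν := hν
    rw [hν'] at h1
    exact h1.unique hπ
  adj := adj_rho
  root := root_rho_odd h2 hN
  rev_fix := by
    show usig (RingHom.id F) (RG N F) = RG N F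
    unfold RG
    rw [usig_permGL, revC_revPerm]

theorem oData_G [Finite F] (h2 : (2 : F) ≠ 0) (N : ℕ) (hN : N % 2 = 1) :
    (oData h2 N hN).G = UH N F (RingHom.id F) := rfl

/-! ### the torus elements -/

/-- the signs of the torus element attached to an index -/
def sgnAt (a : Fin N) (x : Fin N) : F := if x = a ∨ x = a.rev then -1 else 1

theorem sgnAt_mul_self (a x : Fin N) : (sgnAt a x : F) * sgnAt a x = 1 := by
  unfold sgnAt; split_ifs <;> simp

theorem sgnAt_rev (a x : Fin N) : (sgnAt a x.rev : F) = sgnAt a x := by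
  unfold sgnAt
  have h1 : (x.rev = a ∨ x.rev = a.rev) ↔ (x = a ∨ x = a.rev) := by
    constructor
    · rintro (h | h)
      · right; rw [← h, Fin.rev_rev]
      · left; exact Fin.rev_injective h
    · rintro (h | h)
      · right; rw [h]
      · left; rw [h, Fin.rev_rev]
  simp only [h1]

/-- the torus element attached to an index -/
def torAt (a : Fin N) : GL (Fin N) F :=
  ⟨Matrix.diagonal (sgnAt a), Matrix.diagonal (sgnAt a), by
    rw [Matrix.diagonal_mul_diagonal]
    simp only [sgnAt_mul_self, Matrix.diagonal_one], by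
    rw [Matrix.diagonal_mul_diagonal]
    simp only [sgnAt_mul_self, Matrix.diagonal_one]⟩

theorem torAt_coe (a : Fin N) :
    ((torAt a : GL (Fin N) F) : Matrix (Fin N) (Fin N) F) = Matrix.diagonal (sgnAt a) := rfl

theorem torAt_inv (a : Fin N) : (torAt a : GL (Fin N) F)⁻¹ = torAt a := rfl

theorem torAt_mem (a : Fin N) : (torAt a : GL (Fin N) F) ∈ UH N F (RingHom.id F) := by
  rw [mem_UH_iff]
  intro x y
  rw [torAt_inv, torAt_coe, RingHom.id_apply, Matrix.diagonal_apply, Matrix.diagonal_apply]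
  by_cases hxy : x = y
  · subst hxy
    rw [if_pos rfl, if_pos rfl, sgnAt_rev]
  · rw [if_neg hxy, if_neg]
    intro h
    exact hxy (Fin.rev_injective h).symm

/-- the centralizer of the torus in the unitriangular fixed points is trivial -/
theorem oData_hC [Finite F] (h2 : (2 : F) ≠ 0) (N : ℕ) (hN : N % 2 = 1) :
    ∀ u : ↥(oData h2 N hN).G, u ∈ (oData h2 N hN).UF →
      (∀ t ∈ (oData h2 N hN).st.diagK, t * u = u * t) → u = 1 := by
  intro u hu hcomm
  have huU := (oData h2 N hN).mem_UF.1 hu
  have huni : IsUni ((u : GL (Fin N) F) : Matrix (Fin N) (Fin N) F) := mem_UT_iff_isUni.1 huU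
  have hinvU : ((u : GL (Fin N) F)⁻¹) ∈ UT N F := inv_mem huU
  -- entries outside the pairs `(x, rev x)` vanish
  have hzero : ∀ x y : Fin N, y ≠ x → y ≠ x.rev →
      ((u : GL (Fin N) F) : Matrix (Fin N) (Fin N) F) x y = 0 := by
    intro x y hy1 hy2
    have ht : (⟨torAt x, torAt_mem x⟩ : ↥(oData h2 N hN).G) ∈ (oData h2 N hN).st.diagK := by
      rw [(oData h2 N hN).mem_diagK_iff]
      show IsMono ((torAt x : GL (Fin N) F) : Matrix (Fin N) (Fin N) F) 1
      rw [torAt_coe]
      exact isMono_diagonal _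
    have h1 := hcomm _ ht
    have h3 := congrArg (fun g : ↥(oData h2 N hN).G =>
      ((g : GL (Fin N) F) : Matrix (Fin N) (Fin N) F) x y) h1
    simp only [Subgroup.coe_mul, Units.val_mul] at h3
    rw [torAt_coe, Matrix.diagonal_mul, Matrix.mul_diagonal] at h3
    have hsx : (sgnAt x x : F) = -1 := by unfold sgnAt; rw [if_pos (Or.inl rfl)]
    have hsy : (sgnAt x y : F) = 1 := by
      unfold sgnAt
      rw [if_neg]
      rintro (h | h)
      · exact hy1 h
      · exact hy2 h
    rw [hsx, hsy, mul_one, neg_one_mul] at h3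
    have h4 : (2 : F) * ((u : GL (Fin N) F) : Matrix (Fin N) (Fin N) F) x y = 0 := by
      rw [two_mul]
      nth_rewrite 1 [← h3]
      exact neg_add_cancel _
    exact (mul_eq_zero.1 h4).resolve_left h2
  -- the entries at the pairs `(x, rev x)` vanish
  have hzero' : ∀ x : Fin N, x ≠ x.rev →
      ((u : GL (Fin N) F) : Matrix (Fin N) (Fin N) F) x x.rev = 0 := by
    intro x hx
    have hfix := (mem_UH_iff (φ := RingHom.id F)).1 u.2 x x.rev
    rw [Fin.rev_rev, RingHom.id_apply] at hfix
    have h1 : (((u : GL (Fin N) F) * (u : GL (Fin N) F)⁻¹ : GL (Fin N) F) :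
        Matrix (Fin N) (Fin N) F) x x.rev = 0 := by
      rw [mul_inv_cancel, Units.val_one, Matrix.one_apply_ne hx]
    rw [Units.val_mul, Matrix.mul_apply, Finset.sum_eq_add x x.rev hx] at h1
    · rw [(isUni_iff.1 huni).1 x, one_mul, hinvU.2 x.rev, mul_one, ← hfix] at h1
      have h4 : (2 : F) * ((u : GL (Fin N) F) : Matrix (Fin N) (Fin N) F) x x.rev = 0 := by
        rw [two_mul]; exact h1
      exact (mul_eq_zero.1 h4).resolve_left h2
    · intro c _ hc
      rw [hzero x c hc.1 hc.2, zero_mul]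
    · intro h; exact absurd (Finset.mem_univ _) h
    · intro h; exact absurd (Finset.mem_univ _) h
  apply Subtype.ext
  apply Units.ext
  ext x y
  show ((u : GL (Fin N) F) : Matrix (Fin N) (Fin N) F) x y = (1 : Matrix (Fin N) (Fin N) F) x y
  rw [Matrix.one_apply]
  by_cases hxy : x = y
  · subst hxy
    rw [if_pos rfl, (isUni_iff.1 huni).1]
  · rw [if_neg hxy]
    by_cases hy : y = x.rev
    · rw [hy]
      apply hzero'
      rw [← hy]; exact hxy
    · exact hzero x y (Ne.symm hxy) hy

/-- **The Steinberg character of the central quotient of the derived subgroup of the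
odd-dimensional orthogonal group.** -/
theorem exists_steinberg_odd {F : Type*} [Field F] [Fintype F] (p : ℕ) [Fact p.Prime] [CharP F p]
    (h2 : (2 : F) ≠ 0) (N : ℕ) (hN : N % 2 = 1) :
    ∃ ψ : (↥(commutator ↥(UH N F (RingHom.id F))) ⧸
        Subgroup.center ↥(commutator ↥(UH N F (RingHom.id F)))) → ℂ,
      IsIrrCharacter (↥(commutator ↥(UH N F (RingHom.id F))) ⧸
        Subgroup.center ↥(commutator ↥(UH N F (RingHom.id F)))) ψ ∧
      ψ 1 = ((p ^ (Nat.card (↥(commutator ↥(UH N F (RingHom.id F))) ⧸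
        Subgroup.center ↥(commutator ↥(UH N F (RingHom.id F))))).factorization p : ℕ) : ℂ) :=
  (oData h2 N hN).exists_steinberg_derived p (oData_hC h2 N hN)

end Cfsg.Agent.Lib.Helper8.Tw
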