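import Mathlib
import Cfsg.Agent.Lib.Helper8.Tw.OData

/-!
# The isometry group of `x₀² + Σ xᵢ yᵢ` as the group of the antidiagonal form (helper8)
-/

set_option autoImplicit false

namespace Cfsg.Agent.Lib.Helper8.Tw

open Matrix Cfsg Cfsg.Agent.Lib.Helper5.GLBN
open scoped MatrixGroups

variable {m : ℕ} {F : Type*} [Field F]

/-- the index type of the quadratic form -/
abbrev OI (m : ℕ) : Type := Unit ⊕ (Fin m ⊕ Fin m)

/-- the index map -/
def oIdx (m : ℕ) : OI m → Fin (2 * m + 1)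
  | .inl _ => ⟨m, by omega⟩
  | .inr (.inl i) => ⟨i, by omega⟩
  | .inr (.inr i) => ⟨2 * m - i, by omega⟩

theorem oIdx_bijective : Function.Bijective (oIdx m) := by
  rw [Fintype.bijective_iff_injective_and_card]
  constructor
  · rintro (_ | i | i) (_ | j | j) h <;> simp only [oIdx, Fin.mk.injEq] at h
    · rfl
    · have := j.2; omega
    · have := j.2; omega
    · have := i.2; omega
    · rw [Fin.ext h]
    · have := i.2; have := j.2; omega
    · have := i.2; omega
    · have := i.2; have := j.2; omega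
    · have := i.2
      have := j.2
      have : (i : ℕ) = j := by omega
      rw [Fin.ext this]
  · simp only [Fintype.card_sum, Fintype.card_unit, Fintype.card_fin]
    omega

/-- the index equivalence -/
noncomputable def oEquiv (m : ℕ) : OI m ≃ Fin (2 * m + 1) := Equiv.ofBijective _ oIdx_bijective

theorem oEquiv_apply (x : OI m) : oEquiv m x = oIdx m x := rfl

theorem oIdx_rev_mid (u : Unit) : (oIdx m (.inl u)).rev = oIdx m (.inl u) := by
  apply Fin.ext
  rw [Fin.val_rev]
  simp only [oIdx]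
  omega

theorem oIdx_rev_x (i : Fin m) : (oIdx m (.inr (.inl i))).rev = oIdx m (.inr (.inr i)) := by
  apply Fin.ext
  rw [Fin.val_rev]
  simp only [oIdx]
  have := i.2
  omega

theorem oIdx_rev_y (i : Fin m) : (oIdx m (.inr (.inr i))).rev = oIdx m (.inr (.inl i)) := by
  rw [← oIdx_rev_x, Fin.rev_rev]

/-- the scaling -/
def oScal (m : ℕ) (F : Type*) [Field F] : OI m → F
  | .inr (.inr _) => 2
  | _ => 1

theorem oScal_ne_zero (h2 : (2 : F) ≠ 0) (x : OI m) : oScal m F x ≠ 0 := by
  rcases x with _ | i | i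
  · exact one_ne_zero
  · exact one_ne_zero
  · exact h2

/-- the quadratic form of the antidiagonal matrix -/
def qR (N : ℕ) (v : Fin N → F) : F := ∑ a, v a * v a.rev

/-- the transport of the vectors -/
def oT (v : Fin (2 * m + 1) → F) : OI m → F := fun x => oScal m F x * v (oIdx m x)

theorem quadFormOdd_oT (v : Fin (2 * m + 1) → F) :
    quadFormOdd m F (oT v) = qR (2 * m + 1) v := by
  unfold qR quadFormOdd oT
  rw [← Equiv.sum_comp (oEquiv m) (fun a => v a * v a.rev)]
  simp only [oEquiv_apply, Fintype.sum_sum_type, Finset.univ_unique, Finset.sum_singleton,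
    oIdx_rev_mid, oIdx_rev_x, oIdx_rev_y, oScal]
  rw [← Finset.sum_add_distrib]
  have : ∀ i : Fin m, 1 * v (oIdx m (.inr (.inl i))) * (2 * v (oIdx m (.inr (.inr i))))
      = v (oIdx m (.inr (.inl i))) * v (oIdx m (.inr (.inr i)))
        + v (oIdx m (.inr (.inr i))) * v (oIdx m (.inr (.inl i))) := by
    intro i; ring
  simp only [this]
  have hd : (default : Unit) = () := rfl
  rw [hd]
  ring

/-! ### quadratic and bilinear forms -/

theorem symm_eq_zero_of_quad {n : Type*} [Fintype n] [DecidableEq n] (h2 : (2 : F) ≠ 0)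
    (S : Matrix n n F) (hS : Sᵀ = S) (h : ∀ v : n → F, v ⬝ᵥ (S *ᵥ v) = 0) : S = 0 := by
  have key : ∀ u v : n → F, u ⬝ᵥ (S *ᵥ v) = 0 := by
    intro u v
    have h1 := h (u + v)
    rw [Matrix.mulVec_add, add_dotProduct, dotProduct_add, dotProduct_add, h u, h v, zero_add,
      add_zero] at h1
    have h3 : v ⬝ᵥ (S *ᵥ u) = u ⬝ᵥ (S *ᵥ v) := by
      calc v ⬝ᵥ (S *ᵥ u) = (v ᵥ* S) ⬝ᵥ u := Matrix.dotProduct_mulVec _ _ _
        _ = (Sᵀ *ᵥ v) ⬝ᵥ u := by rw [Matrix.mulVec_transpose]
        _ = (S *ᵥ v) ⬝ᵥ u := by rw [hS]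
        _ = u ⬝ᵥ (S *ᵥ v) := dotProduct_comm _ _
    rw [h3] at h1
    have h4 : (2 : F) * (u ⬝ᵥ (S *ᵥ v)) = 0 := by rw [two_mul]; exact h1
    exact (mul_eq_zero.1 h4).resolve_left h2
  ext a b
  have := key (Pi.single a 1) (Pi.single b 1)
  rw [Matrix.mulVec_single_one, single_one_dotProduct] at this
  rw [Matrix.zero_apply]
  exact this

theorem qR_eq (N : ℕ) (v : Fin N → F) :
    qR N v = v ⬝ᵥ (((RG N F : GL (Fin N) F) : Matrix (Fin N) (Fin N) F) *ᵥ v) := by
  unfold qR dotProduct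
  apply Finset.sum_congr rfl
  intro a _
  congr 1
  rw [Matrix.mulVec, dotProduct, Finset.sum_eq_single a.rev]
  · rw [RG_apply_rev, one_mul]
  · intro b _ hb
    rw [RG_apply, if_neg, zero_mul]
    intro e
    apply hb
    rw [e, Fin.rev_rev]
  · intro h; exact absurd (Finset.mem_univ _) h

theorem RG_transpose (N : ℕ) :
    ((RG N F : GL (Fin N) F) : Matrix (Fin N) (Fin N) F)ᵀ
      = ((RG N F : GL (Fin N) F) : Matrix (Fin N) (Fin N) F) := by
  ext a b
  rw [Matrix.transpose_apply, RG_apply, RG_apply]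
  by_cases h : a = b.rev
  · rw [if_pos h, if_pos (by rw [h, Fin.rev_rev])]
  · rw [if_neg h, if_neg]
    intro h'
    apply h
    rw [h', Fin.rev_rev]

/-- the group of the antidiagonal form is the isometry group of its quadratic form -/
theorem mem_UH_id_iff (h2 : (2 : F) ≠ 0) {N : ℕ} {g : GL (Fin N) F} :
    g ∈ UH N F (RingHom.id F) ↔
      ∀ v : Fin N → F, qR N ((g : Matrix (Fin N) (Fin N) F) *ᵥ v) = qR N v := by
  rw [mem_UH_iff_mul]
  have hmap : (g : Matrix (Fin N) (Fin N) F).map (RingHom.id F) = (g : Matrix (Fin N) (Fin N) F) := by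
    ext a b; rfl
  rw [hmap]
  have hq : ∀ v : Fin N → F, qR N ((g : Matrix (Fin N) (Fin N) F) *ᵥ v)
      = v ⬝ᵥ (((g : Matrix (Fin N) (Fin N) F)ᵀ
        * ((RG N F : GL (Fin N) F) : Matrix (Fin N) (Fin N) F)
        * (g : Matrix (Fin N) (Fin N) F)) *ᵥ v) := by
    intro v
    rw [qR_eq, Matrix.mul_assoc, ← Matrix.mulVec_mulVec, ← Matrix.mulVec_mulVec,
      Matrix.dotProduct_mulVec _ ((g : Matrix (Fin N) (Fin N) F)ᵀ), Matrix.vecMul_transpose]
  constructor
  · intro h v
    rw [hq, h, ← qR_eq]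
  · intro h
    have h3 := symm_eq_zero_of_quad h2
      ((g : Matrix (Fin N) (Fin N) F)ᵀ * ((RG N F : GL (Fin N) F) : Matrix (Fin N) (Fin N) F)
        * (g : Matrix (Fin N) (Fin N) F) - ((RG N F : GL (Fin N) F) : Matrix (Fin N) (Fin N) F))
      (by
        rw [Matrix.transpose_sub, Matrix.transpose_mul, Matrix.transpose_mul,
          Matrix.transpose_transpose, RG_transpose, Matrix.mul_assoc])
      (by
        intro v
        rw [Matrix.sub_mulVec, dotProduct_sub, ← hq, h, ← qR_eq, sub_self])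
    exact sub_eq_zero.1 h3

end Cfsg.Agent.Lib.Helper8.Tw
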