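import Mathlib
import Cfsg.Agent.Lib.Helper8.Tw.OIso

/-!
# The Steinberg character of `PΩ_{2m+1}(F)`, `|F|` odd (helper8, for S2547)
-/

set_option autoImplicit false

namespace Cfsg.Agent.Lib.Helper8.Tw

open Matrix Cfsg Cfsg.Agent.Lib.Helper5.GLBN Cfsg.Agent.Lib.helper3 Cfsg.Agent.Lib.helper3.Irr
open scoped MatrixGroups

variable {m : ℕ} {F : Type*} [Field F]

/-! ### the base change -/

/-- the diagonal scaling in the coordinates indexed by `Fin (2 * m + 1)` -/
noncomputable def oD (h2 : (2 : F) ≠ 0) (m : ℕ) : GL (Fin (2 * m + 1)) F :=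
  ⟨Matrix.diagonal fun a => oScal m F ((oEquiv m).symm a),
    Matrix.diagonal fun a => (oScal m F ((oEquiv m).symm a))⁻¹, by
      rw [Matrix.diagonal_mul_diagonal]
      have : (fun a => oScal m F ((oEquiv m).symm a) * (oScal m F ((oEquiv m).symm a))⁻¹)
          = fun _ => 1 := by
        funext a; exact mul_inv_cancel₀ (oScal_ne_zero h2 _)
      rw [this, Matrix.diagonal_one], by
      rw [Matrix.diagonal_mul_diagonal]
      have : (fun a => (oScal m F ((oEquiv m).symm a))⁻¹ * oScal m F ((oEquiv m).symm a))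
          = fun _ => 1 := by
        funext a; exact inv_mul_cancel₀ (oScal_ne_zero h2 _)
      rw [this, Matrix.diagonal_one]⟩

theorem oD_coe (h2 : (2 : F) ≠ 0) (m : ℕ) :
    ((oD h2 m : GL (Fin (2 * m + 1)) F) : Matrix (Fin (2 * m + 1)) (Fin (2 * m + 1)) F)
      = Matrix.diagonal fun a => oScal m F ((oEquiv m).symm a) := rfl

theorem oT_eq (h2 : (2 : F) ≠ 0) (w : Fin (2 * m + 1) → F) :
    oT w = (((oD h2 m : GL (Fin (2 * m + 1)) F) : Matrix (Fin (2 * m + 1)) (Fin (2 * m + 1)) F)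
      *ᵥ w) ∘ oEquiv m := by
  funext x
  rw [Function.comp_apply, oD_coe, Matrix.mulVec_diagonal, Equiv.symm_apply_apply, oEquiv_apply]
  rfl

/-- the base change on the general linear groups -/
noncomputable def oPhi (h2 : (2 : F) ≠ 0) (m : ℕ) : GL (OI m) F ≃* GL (Fin (2 * m + 1)) F :=
  (Units.mapEquiv (Matrix.reindexAlgEquiv F F (oEquiv m)).toRingEquiv.toMulEquiv).trans
    (MulAut.conj (oD h2 m)⁻¹)

theorem oPhi_coe (h2 : (2 : F) ≠ 0) (g : GL (OI m) F) :
    ((oPhi h2 m g : GL (Fin (2 * m + 1)) F) : Matrix (Fin (2 * m + 1)) (Fin (2 * m + 1)) F)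
      = (((oD h2 m)⁻¹ : GL (Fin (2 * m + 1)) F) : Matrix (Fin (2 * m + 1)) (Fin (2 * m + 1)) F)
        * (g : Matrix (OI m) (OI m) F).submatrix (oEquiv m).symm (oEquiv m).symm
        * ((oD h2 m : GL (Fin (2 * m + 1)) F) : Matrix (Fin (2 * m + 1)) (Fin (2 * m + 1)) F) := by
  unfold oPhi
  rw [MulEquiv.trans_apply, MulAut.conj_apply, inv_inv, Units.val_mul, Units.val_mul]
  rfl

theorem oT_oPhi (h2 : (2 : F) ≠ 0) (g : GL (OI m) F) (v : Fin (2 * m + 1) → F) :
    oT (((oPhi h2 m g : GL (Fin (2 * m + 1)) F) : Matrix (Fin (2 * m + 1)) (Fin (2 * m + 1)) F)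
      *ᵥ v) = (g : Matrix (OI m) (OI m) F) *ᵥ oT v := by
  rw [oT_eq h2, oT_eq h2, oPhi_coe, Matrix.mulVec_mulVec, ← Matrix.mul_assoc, ← Matrix.mul_assoc,
    ← Units.val_mul, mul_inv_cancel, Units.val_one, Matrix.one_mul, ← Matrix.mulVec_mulVec,
    Matrix.submatrix_mulVec_equiv]
  funext x
  simp only [Function.comp_apply, Equiv.symm_symm, Equiv.symm_apply_apply]

theorem oT_surjective (h2 : (2 : F) ≠ 0) : Function.Surjective (oT (m := m) (F := F)) := by
  intro u
  refine ⟨(((oD h2 m)⁻¹ : GL (Fin (2 * m + 1)) F) : Matrix (Fin (2 * m + 1)) (Fin (2 * m + 1)) F)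
    *ᵥ (u ∘ (oEquiv m).symm), ?_⟩
  rw [oT_eq h2, Matrix.mulVec_mulVec, ← Units.val_mul, mul_inv_cancel, Units.val_one,
    Matrix.one_mulVec]
  funext x
  simp only [Function.comp_apply, Equiv.symm_apply_apply]

theorem mem_isometryGroup_iff {ι : Type} [Fintype ι] [DecidableEq ι] (Q : (ι → F) → F)
    (g : GL ι F) :
    g ∈ isometryGroup F Q ↔ ∀ u : ι → F, Q ((g : Matrix ι ι F) *ᵥ u) = Q u :=
  ⟨fun h u => h u u, fun h u _ => h u⟩

theorem oPhi_mem_iff (h2 : (2 : F) ≠ 0) (g : GL (OI m) F) :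
    g ∈ isometryGroup F (quadFormOdd m F) ↔
      oPhi h2 m g ∈ UH (2 * m + 1) F (RingHom.id F) := by
  rw [mem_isometryGroup_iff, mem_UH_id_iff h2]
  constructor
  · intro h v
    rw [← quadFormOdd_oT, oT_oPhi h2, h, quadFormOdd_oT]
  · intro h u
    obtain ⟨v, rfl⟩ := oT_surjective h2 u
    rw [← oT_oPhi h2, quadFormOdd_oT, h, quadFormOdd_oT]

theorem map_isometryGroup_oPhi (h2 : (2 : F) ≠ 0) (m : ℕ) :
    (isometryGroup F (quadFormOdd m F)).map ((oPhi h2 m : GL (OI m) F ≃* GL (Fin (2 * m + 1)) F) :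
      GL (OI m) F →* GL (Fin (2 * m + 1)) F) = UH (2 * m + 1) F (RingHom.id F) := by
  ext x
  rw [Subgroup.mem_map]
  constructor
  · rintro ⟨g, hg, rfl⟩
    exact (oPhi_mem_iff h2 g).1 hg
  · intro hx
    refine ⟨(oPhi h2 m).symm x, (oPhi_mem_iff h2 _).2 ?_, (oPhi h2 m).apply_symm_apply x⟩
    rw [MulEquiv.apply_symm_apply]
    exact hx

/-- the isometry group of `x₀² + Σ xᵢ yᵢ` is the group of the antidiagonal form -/
noncomputable def oIso (h2 : (2 : F) ≠ 0) (m : ℕ) :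
    ↥(isometryGroup F (quadFormOdd m F)) ≃* ↥(UH (2 * m + 1) F (RingHom.id F)) :=
  ((oPhi h2 m).subgroupMap (isometryGroup F (quadFormOdd m F))).trans
    (MulEquiv.subgroupCongr (map_isometryGroup_oPhi h2 m))

/-! ### transport along an isomorphism -/

section transport

variable {H G : Type*} [Group H] [Group G]

theorem map_commutator_top (ε : H ≃* G) :
    (commutator H).map (ε : H →* G) = commutator G := by
  rw [commutator_def, commutator_def, Subgroup.map_commutator,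
    Subgroup.map_top_of_surjective _ ε.surjective]

/-- the isomorphism of the derived subgroups -/
noncomputable def commutatorEquiv (ε : H ≃* G) : ↥(commutator H) ≃* ↥(commutator G) :=
  (ε.subgroupMap (commutator H)).trans (MulEquiv.subgroupCongr (map_commutator_top ε))

theorem map_center_eq (ε : H ≃* G) :
    (Subgroup.center H).map (ε : H →* G) = Subgroup.center G := by
  ext g
  rw [Subgroup.mem_map, Subgroup.mem_center_iff]
  constructor
  · rintro ⟨h, hh, rfl⟩ y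
    obtain ⟨y', rfl⟩ := ε.surjective y
    show ε y' * ε h = ε h * ε y'
    rw [← map_mul, ← map_mul, Subgroup.mem_center_iff.1 hh y']
  · intro hg
    refine ⟨ε.symm g, ?_, ε.apply_symm_apply g⟩
    rw [Subgroup.mem_center_iff]
    intro y
    apply ε.injective
    rw [map_mul, map_mul, ε.apply_symm_apply]
    exact hg (ε y)

/-- the isomorphism of the central quotients -/
noncomputable def centerQuotEquiv (ε : H ≃* G) :
    H ⧸ Subgroup.center H ≃* G ⧸ Subgroup.center G :=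
  QuotientGroup.congr _ _ ε (map_center_eq ε)

end transport

/-- **The Steinberg character of `PΩ_{2m+1}(F)`.** -/
theorem steinberg_pomega_odd {F : Type*} [Field F] [Fintype F] (p : ℕ) [hp : Fact p.Prime]
    [CharP F p] (hodd : Odd (Fintype.card F)) (m : ℕ) :
    ∃ χ : Cfsg.POmega F (Cfsg.quadFormOdd m F) → ℂ,
      IsIrrCharacter (Cfsg.POmega F (Cfsg.quadFormOdd m F)) χ ∧
      ∀ P : Sylow p (Cfsg.POmega F (Cfsg.quadFormOdd m F)), χ 1 = Nat.card P ∧
        ∀ x : Cfsg.POmega F (Cfsg.quadFormOdd m F), x ∈ P → x ≠ 1 → χ x = 0 := by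
  have h2 : (2 : F) ≠ 0 := by
    intro h
    have h1 : ((2 : ℕ) : F) = 0 := by exact_mod_cast h
    have h3 : p ∣ 2 := (CharP.cast_eq_zero_iff F p 2).1 h1
    have hp2 : p = 2 := (Nat.prime_dvd_prime_iff_eq hp.out Nat.prime_two).1 h3
    have h4 : p ∣ Fintype.card F := by
      have : ((Fintype.card F : ℕ) : F) = 0 := Nat.cast_card_eq_zero F
      exact (CharP.cast_eq_zero_iff F p _).1 this
    rw [hp2] at h4
    exact (Nat.not_even_iff_odd.2 hodd) (even_iff_two_dvd.2 h4)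
  obtain ⟨ψ, hψ, hψ1⟩ := exists_steinberg_odd (F := F) p h2 (2 * m + 1) (by omega)
  set ε₂ := centerQuotEquiv (commutatorEquiv (oIso h2 m)) with hε₂
  have hχ : IsIrrCharacter (Cfsg.POmega F (Cfsg.quadFormOdd m F)) (fun x => ψ (ε₂ x)) :=
    isIrrCharacter_comp_mulEquiv ε₂ hψ
  have hχ1 : (fun x => ψ (ε₂ x)) 1 = ((p ^ (Nat.card
      (Cfsg.POmega F (Cfsg.quadFormOdd m F))).factorization p : ℕ) : ℂ) := by
    show ψ (ε₂ 1) = _
    rw [map_one, hψ1, Nat.card_congr ε₂.toEquiv]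
  exact ⟨_, hχ, steinberg_of_degree p hχ hχ1⟩

end Cfsg.Agent.Lib.Helper8.Tw
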